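import Mathlib

/-!
Owner: helper20. A doubly transitive group with a point stabiliser `U H`, `U` of order `q³` regular on
the other points and `H` cyclic of order `(q² - 1) / d`: the setup and the Bruhat identities for an
involution exchanging the two base points.
-/

set_option autoImplicit false
set_option linter.all false

namespace CfsgLib.LocalEvenB.OddUnitary

variable {G Ω : Type*} [Group G] [MulAction G Ω]

/-- Conjugation. -/
def cj (g x : G) : G := g * x * g⁻¹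

@[simp] theorem cj_mul (g x y : G) : cj g (x * y) = cj g x * cj g y := by simp only [cj]; group

@[simp] theorem cj_inv (g x : G) : cj g x⁻¹ = (cj g x)⁻¹ := by simp only [cj]; group

theorem cj_cj (g h x : G) : cj g (cj h x) = cj (g * h) x := by simp only [cj]; group

@[simp] theorem cj_one_left (x : G) : cj 1 x = x := by simp [cj]

@[simp] theorem cj_one (g : G) : cj g 1 = 1 := by simp [cj]

theorem cj_pow (g x : G) (k : ℕ) : cj g (x ^ k) = cj g x ^ k := by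
  simp only [cj, conj_pow]

theorem cj_eq_one {g x : G} : cj g x = 1 ↔ x = 1 := by simp [cj, conj_eq_one_iff]

theorem cj_eq_iff {g x : G} : cj g x = x ↔ g * x = x * g := by
  rw [cj, mul_inv_eq_iff_eq_mul]

theorem cj_injective (g : G) : Function.Injective (cj g) := fun x y h => by
  simpa [cj] using h

/-- The setup. -/
structure Hyp (G Ω : Type*) [Group G] [MulAction G Ω] (p n d : ℕ) where
  a : Ω
  b : Ω
  U : Subgroup G
  H : Subgroup G
  prime : p.Prime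
  odd : p ≠ 2
  pos : 1 ≤ n
  d_eq : d = Nat.gcd 3 (p ^ n + 1)
  ne : a ≠ b
  U_fix : ∀ u ∈ U, u • a = a
  U_norm : ∀ g : G, g • a = a → ∀ u ∈ U, cj g u ∈ U
  U_reg : ∀ x : Ω, x ≠ a → ∃ u ∈ U, u • b = x
  U_free : ∀ u ∈ U, u • b = b → u = 1
  mem_H : ∀ g : G, g ∈ H ↔ g • a = a ∧ g • b = b
  two : ∀ x y : Ω, x ≠ y → ∃ g : G, g • a = x ∧ g • b = y
  card_U : Nat.card U = p ^ (3 * n)
  cyc : IsCyclic H
  card_H : d * Nat.card H = p ^ (2 * n) - 1

/-- A setup with an involution exchanging the base points. -/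
structure Swap {p n d : ℕ} (S : Hyp G Ω p n d) where
  s : G
  s_mul : s * s = 1
  s_a : s • S.a = S.b

namespace Hyp

variable {p n d : ℕ} (S : Hyp G Ω p n d)

theorem H_fix_a {h : G} (h' : h ∈ S.H) : h • S.a = S.a := ((S.mem_H h).1 h').1

theorem H_fix_b {h : G} (h' : h ∈ S.H) : h • S.b = S.b := ((S.mem_H h).1 h').2

theorem cj_mem_U {h u : G} (h' : h ∈ S.H) (hu : u ∈ S.U) : cj h u ∈ S.U :=
  S.U_norm h (S.H_fix_a h') u hu

theorem U_inj {u v : G} (hu : u ∈ S.U) (hv : v ∈ S.U) (h : u • S.b = v • S.b) : u = v := by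
  refine (inv_mul_eq_one.1 (S.U_free _ (mul_mem (inv_mem hv) hu) ?_)).symm
  rw [mul_smul, h, inv_smul_smul]

theorem U_smul_ne {u : G} (hu : u ∈ S.U) : u • S.b ≠ S.a := fun h =>
  S.ne (smul_left_cancel u ((S.U_fix u hu).trans h.symm))

theorem eq_one_of_mem {g : G} (hU : g ∈ S.U) (hH : g ∈ S.H) : g = 1 :=
  S.U_free g hU (S.H_fix_b hH)

theorem H_comm {x y : G} (hx : x ∈ S.H) (hy : y ∈ S.H) : x * y = y * x := by
  haveI := S.cyc
  letI : CommGroup S.H := IsCyclic.commGroup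
  exact congrArg Subtype.val (mul_comm (⟨x, hx⟩ : S.H) ⟨y, hy⟩)

theorem cj_H {x y : G} (hx : x ∈ S.H) (hy : y ∈ S.H) : cj x y = y :=
  cj_eq_iff.2 (S.H_comm hx hy)

/-- An element fixing `a` is a product from `H` and `U`. -/
theorem exists_decomp {g : G} (hg : g • S.a = S.a) : ∃ h ∈ S.H, ∃ u ∈ S.U, g = h * u := by
  obtain ⟨u, hu, hub⟩ := S.U_reg (g⁻¹ • S.b) fun h => S.ne (by
    have := congrArg (g • ·) h
    simpa [hg] using this.symm)
  refine ⟨g * u, (S.mem_H _).2 ⟨by rw [mul_smul, S.U_fix u hu, hg], ?_⟩, u⁻¹, inv_mem hu, by group⟩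
  rw [mul_smul, hub, smul_inv_smul]

theorem decomp_unique {h h' u u' : G} (hh : h ∈ S.H) (hh' : h' ∈ S.H) (hu : u ∈ S.U)
    (hu' : u' ∈ S.U) (e : h * u = h' * u') : h = h' ∧ u = u' := by
  have e1 : h'⁻¹ * h = u' * u⁻¹ := by
    rw [eq_mul_inv_iff_mul_eq, mul_assoc, e, ← mul_assoc, inv_mul_cancel, one_mul]
  have e2 := S.eq_one_of_mem (g := h'⁻¹ * h) (e1 ▸ mul_mem hu' (inv_mem hu))
    (mul_mem (inv_mem hh') hh)
  have e3 : h = h' := (inv_mul_eq_one.1 e2).symm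
  exact ⟨e3, mul_left_cancel (e3 ▸ e)⟩

end Hyp

namespace Swap

variable {p n d : ℕ} {S : Hyp G Ω p n d} (W : Swap S)

theorem s_b : W.s • S.b = S.a := by rw [← W.s_a, ← mul_smul, W.s_mul, one_smul]

theorem s_inv : W.s⁻¹ = W.s := inv_eq_of_mul_eq_one_right W.s_mul

theorem s_cancel (x : G) : W.s * (W.s * x) = x := by rw [← mul_assoc, W.s_mul, one_mul]

/-- Conjugation by the swap. -/
def pr (k : G) : G := W.s * k * W.s

theorem pr_mem {k : G} (hk : k ∈ S.H) : W.pr k ∈ S.H := by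
  rw [S.mem_H]
  simp only [pr, mul_smul]
  exact ⟨by rw [W.s_a, S.H_fix_b hk, W.s_b], by rw [W.s_b, S.H_fix_a hk, W.s_a]⟩

theorem pr_pr (k : G) : W.pr (W.pr k) = k := by
  simp only [pr, mul_assoc, W.s_mul, mul_one, W.s_cancel]

theorem pr_mul (k l : G) : W.pr (k * l) = W.pr k * W.pr l := by
  simp only [pr, mul_assoc, W.s_cancel]

theorem pr_inv (k : G) : W.pr k⁻¹ = (W.pr k)⁻¹ := by
  simp only [pr, mul_inv_rev, W.s_inv, mul_assoc]

theorem pr_one : W.pr 1 = 1 := by simp [pr, W.s_mul]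

theorem s_mul_eq (k : G) : W.s * k = W.pr k * W.s := by
  simp only [pr, mul_assoc, W.s_mul, mul_one]

theorem mul_s_eq (k : G) : k * W.s = W.s * W.pr k := by
  simp only [pr, mul_assoc, W.s_cancel]

theorem image_ne_a {x : G} (hx : x ∈ S.U) (hx1 : x ≠ 1) : W.s • (x • S.b) ≠ S.a := fun h => by
  refine hx1 (S.U_free x hx (smul_left_cancel W.s (h.trans ?_)))
  rw [W.s_b]

/-- The point map: `s` sends `x • b` to `F x • b`. -/
noncomputable def F (x : G) : G :=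
  haveI := Classical.propDecidable (x ∈ S.U ∧ x ≠ 1)
  if h : x ∈ S.U ∧ x ≠ 1 then (S.U_reg _ (W.image_ne_a h.1 h.2)).choose else 1

theorem F_spec {x : G} (hx : x ∈ S.U) (hx1 : x ≠ 1) :
    W.F x ∈ S.U ∧ W.F x • S.b = W.s • (x • S.b) := by
  rw [F, dif_pos ⟨hx, hx1⟩]
  exact (S.U_reg _ (W.image_ne_a hx hx1)).choose_spec

theorem F_mem {x : G} (hx : x ∈ S.U) (hx1 : x ≠ 1) : W.F x ∈ S.U := (W.F_spec hx hx1).1

theorem F_ne {x : G} (hx : x ∈ S.U) (hx1 : x ≠ 1) : W.F x ≠ 1 := fun h => by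
  have h1 := (W.F_spec hx hx1).2
  rw [h, one_smul] at h1
  exact S.U_smul_ne hx (smul_left_cancel W.s (W.s_a.trans h1)).symm

/-- The rest of `s x s = F x · s · K x · G x`. -/
noncomputable def rest (x : G) : G := W.s * (W.F x)⁻¹ * (W.s * x * W.s)

theorem rest_fix {x : G} (hx : x ∈ S.U) (hx1 : x ≠ 1) : W.rest x • S.a = S.a := by
  have h : (W.F x)⁻¹ • (W.s • (x • S.b)) = S.b := by rw [← (W.F_spec hx hx1).2, inv_smul_smul]
  simp only [rest, mul_smul, W.s_a]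
  rw [h, W.s_b]

/-- The torus part. -/
noncomputable def K (x : G) : G :=
  haveI := Classical.propDecidable (x ∈ S.U ∧ x ≠ 1)
  if h : x ∈ S.U ∧ x ≠ 1 then (S.exists_decomp (W.rest_fix h.1 h.2)).choose else 1

/-- The right unipotent part. -/
noncomputable def R (x : G) : G := (W.K x)⁻¹ * W.rest x

theorem K_mem {x : G} (hx : x ∈ S.U) (hx1 : x ≠ 1) : W.K x ∈ S.H := by
  rw [K, dif_pos ⟨hx, hx1⟩]
  exact (S.exists_decomp (W.rest_fix hx hx1)).choose_spec.1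

theorem R_mem {x : G} (hx : x ∈ S.U) (hx1 : x ≠ 1) : W.R x ∈ S.U := by
  rw [R, K, dif_pos ⟨hx, hx1⟩]
  obtain ⟨-, u, hu, e⟩ := (S.exists_decomp (W.rest_fix hx hx1)).choose_spec
  rwa [inv_mul_eq_iff_eq_mul.2 e]

theorem bruhat (x : G) : W.s * x * W.s = W.F x * W.s * W.K x * W.R x := by
  simp only [R, rest, mul_assoc, mul_inv_cancel_left, W.s_cancel]

theorem bruhat_unique {x f k g : G} (hx : x ∈ S.U) (hx1 : x ≠ 1) (hf : f ∈ S.U) (hk : k ∈ S.H)
    (hg : g ∈ S.U) (e : W.s * x * W.s = f * W.s * k * g) :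
    W.F x = f ∧ W.K x = k ∧ W.R x = g := by
  have h1 : W.F x = f := by
    refine S.U_inj (W.F_mem hx hx1) hf ((W.F_spec hx hx1).2.trans ?_)
    have h2 := congrArg (· • S.a) e
    simp only [mul_smul, W.s_a, S.U_fix g hg, S.H_fix_a hk] at h2
    exact h2
  refine ⟨h1, S.decomp_unique (W.K_mem hx hx1) hk (W.R_mem hx hx1) hg ?_⟩
  have e' := (W.bruhat x).symm.trans e
  simpa only [h1, mul_assoc, mul_right_inj] using e'

theorem conj_rule {x l : G} (hx : x ∈ S.U) (hx1 : x ≠ 1) (hl : l ∈ S.H) :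
    W.F (cj l x) = cj (W.pr l) (W.F x) ∧ W.K (cj l x) = l * W.K x * (W.pr l)⁻¹ ∧
      W.R (cj l x) = cj (W.pr l) (W.R x) := by
  refine W.bruhat_unique (S.cj_mem_U hl hx) (by rwa [Ne, cj_eq_one])
    (S.cj_mem_U (W.pr_mem hl) (W.F_mem hx hx1))
    (mul_mem (mul_mem hl (W.K_mem hx hx1)) (inv_mem (W.pr_mem hl)))
    (S.cj_mem_U (W.pr_mem hl) (W.R_mem hx hx1)) ?_
  have e : W.s * cj l x * W.s = cj (W.pr l) (W.s * x * W.s) := by
    simp only [cj, pr, mul_inv_rev, W.s_inv, mul_assoc, W.s_cancel]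
  rw [e, W.bruhat x]
  have h1 : W.s * l = W.pr l * W.s := W.s_mul_eq l
  simp only [cj, mul_assoc, inv_mul_cancel_left]
  congr 2
  rw [← mul_assoc W.s l, h1]
  simp only [mul_assoc]
  group

theorem inv_rule {x : G} (hx : x ∈ S.U) (hx1 : x ≠ 1) :
    W.F x⁻¹ = (W.R x)⁻¹ ∧ W.K x⁻¹ = (W.pr (W.K x))⁻¹ ∧ W.R x⁻¹ = (W.F x)⁻¹ := by
  refine W.bruhat_unique (inv_mem hx) (inv_ne_one.2 hx1) (inv_mem (W.R_mem hx hx1))
    (inv_mem (W.pr_mem (W.K_mem hx hx1))) (inv_mem (W.F_mem hx hx1)) ?_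
  have e := congrArg (·⁻¹) (W.bruhat x)
  simp only [mul_inv_rev, W.s_inv] at e
  simp only [pr, mul_inv_rev, W.s_inv, mul_assoc, W.s_cancel] at e ⊢
  exact e

theorem F_rule {x : G} (hx : x ∈ S.U) (hx1 : x ≠ 1) :
    W.F (W.F x) = x ∧ W.K (W.F x) = (W.K x)⁻¹ ∧ W.R (W.F x) = (cj (W.K x) (W.R x))⁻¹ := by
  refine W.bruhat_unique (W.F_mem hx hx1) (W.F_ne hx hx1) hx (inv_mem (W.K_mem hx hx1))
    (inv_mem (S.cj_mem_U (W.K_mem hx hx1) (W.R_mem hx hx1))) ?_
  have e : W.F x = W.s * x * W.s * (W.R x)⁻¹ * (W.K x)⁻¹ * W.s := by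
    rw [W.bruhat x]
    simp only [mul_assoc, mul_inv_cancel_left, W.s_mul, mul_one]
  conv_lhs => rw [e]
  simp only [cj, mul_inv_rev, inv_inv, mul_assoc, W.s_cancel, W.s_mul, mul_one,
    inv_mul_cancel_left]

theorem mul_rule {x y : G} (hx : x ∈ S.U) (hx1 : x ≠ 1) (hy : y ∈ S.U) (hy1 : y ≠ 1)
    (hw : W.R x * W.F y ≠ 1) :
    W.F (x * y) = W.F x * cj (W.pr (W.K x)) (W.F (W.R x * W.F y)) := by
  set w := W.R x * W.F y with hwdef
  have hwU : w ∈ S.U := mul_mem (W.R_mem hx hx1) (W.F_mem hy hy1)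
  have hKx := W.K_mem hx hx1
  have hKy := W.K_mem hy hy1
  have hF : W.F x * cj (W.pr (W.K x)) (W.F w) ∈ S.U :=
    mul_mem (W.F_mem hx hx1) (S.cj_mem_U (W.pr_mem hKx) (W.F_mem hwU hw))
  have e : W.s * (x * y) * W.s = W.F x * cj (W.pr (W.K x)) (W.F w) * W.s *
      (W.K x * W.K w * W.K y) * (cj (W.K y)⁻¹ (W.R w) * W.R y) := by
    have h1 : W.s * (x * y) * W.s = (W.s * x * W.s) * (W.s * y * W.s) := by
      simp only [mul_assoc, W.s_cancel]
    have h2 : W.F x * W.s * W.K x * W.R x * (W.F y * W.s * W.K y * W.R y) =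
        W.F x * W.pr (W.K x) * (W.s * w * W.s) * W.K y * W.R y := by
      simp only [hwdef, pr, mul_assoc, W.s_cancel]
    rw [h1, W.bruhat x, W.bruhat y, h2, W.bruhat w]
    simp only [cj, pr, mul_inv_rev, W.s_inv, inv_inv, mul_assoc, W.s_cancel, W.s_mul, mul_one,
      mul_inv_cancel_left, inv_mul_cancel_left]
  have hxy : x * y ≠ 1 := fun h => by
    rw [h, mul_one, W.s_mul] at e
    have e2 := congrArg (· • S.a) e
    simp only [one_smul, mul_smul,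
      S.U_fix _ (S.cj_mem_U (inv_mem hKy) (W.R_mem hwU hw)),
      S.U_fix _ (W.R_mem hy hy1), S.H_fix_a hKy, S.H_fix_a (W.K_mem hwU hw), S.H_fix_a hKx,
      W.s_a] at e2
    rw [← mul_smul] at e2
    exact S.U_smul_ne hF e2.symm
  exact (W.bruhat_unique (mul_mem hx hy) hxy hF
    (mul_mem (mul_mem hKx (W.K_mem hwU hw)) hKy)
    (mul_mem (S.cj_mem_U (inv_mem hKy) (W.R_mem hwU hw)) (W.R_mem hy hy1)) e).1

end Swap

end CfsgLib.LocalEvenB.OddUnitary
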