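import Cfsg.Agent.Lib.LocalEvenB.OddUnitary.Inverted
import Cfsg.Agent.Lib.Classical.Unitary.Field

/-!
Owner: helper20. The commutator form on `U / Z₀` is the Hermitian one, and `U` is the group of the
finite points of the unital.
-/

set_option autoImplicit false
set_option linter.all false

universe u v

namespace CfsgLib.LocalEvenB.OddUnitary

open CfsgLib.Classical.Herm

section field

variable {p n : ℕ} [hp : Fact p.Prime]

/-- The involution of the field. -/
noncomputable def cnj (p n : ℕ) [Fact p.Prime] : GaloisField p (2 * n) →+* GaloisField p (2 * n) :=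
  iterateFrobenius _ p n

theorem cnj_apply (x : GaloisField p (2 * n)) : cnj p n x = x ^ p ^ n := iterateFrobenius_def _ _ _

theorem cnj_isInvol (hn : n ≠ 0) : IsInvol (cnj p n) := by
  haveI : Finite (GaloisField p (2 * n)) := Nat.finite_of_card_ne_zero (by
    rw [GaloisField.card p (2 * n) (by omega)]; exact (pow_pos hp.out.pos _).ne')
  letI := Fintype.ofFinite (GaloisField p (2 * n))
  have hF : Fintype.card (GaloisField p (2 * n)) = (p ^ n) ^ 2 := by
    rw [← Nat.card_eq_fintype_card, GaloisField.card p (2 * n) (by omega), ← pow_mul, mul_comm 2]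
  have e : cnj p n = powHom hF := RingHom.ext fun x => by rw [cnj_apply, powHom_apply]
  rw [e]
  exact powHom_isInvol hF

theorem card_real (hn : n ≠ 0) : Nat.card (fixedSub (cnj p n)) = p ^ n := by
  haveI : Finite (GaloisField p (2 * n)) := Nat.finite_of_card_ne_zero (by
    rw [GaloisField.card p (2 * n) (by omega)]; exact (pow_pos hp.out.pos _).ne')
  have h := (cnj_isInvol (p := p) hn).card_sq
  rw [GaloisField.card p (2 * n) (by omega)] at h
  have e : p ^ (2 * n) = (p ^ n) ^ 2 := by rw [← pow_mul, mul_comm]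
  exact (Nat.pow_left_injective two_ne_zero (e.symm.trans h)).symm

end field

namespace Swap

variable {G : Type u} {Ω : Type v} [Group G] [MulAction G Ω] [Finite G] [FaithfulSMul G Ω]
  {p n d : ℕ} [Fact p.Prime] {S : Hyp G Ω p n d} (W : Swap S) (C : Scalars S) (hs : W.s ∈ S.refl)

local notation "L" => GaloisField p (2 * n)

end Swap

namespace Scalars

variable {G : Type u} {Ω : Type v} [Group G] [MulAction G Ω] [Finite G] [FaithfulSMul G Ω]
  {p n d : ℕ} [Fact p.Prime] {S : Hyp G Ω p n d} (C : Scalars S)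

local notation "L" => GaloisField p (2 * n)
local notation "κ" => cnj p n

/-- The inverted element of a class. -/
noncomputable def nu (l : L) : G := (C.β_surj l).choose

omit [FaithfulSMul G Ω] in
theorem nu_inv (l : L) : S.IsInv (C.nu l) := (C.β_surj l).choose_spec.1

omit [FaithfulSMul G Ω] in
theorem β_nu (l : L) : C.β (C.nu l) = l := (C.β_surj l).choose_spec.2

theorem nu_β {x : G} (hx : S.IsInv x) : C.nu (C.β x) = x :=
  C.inv_ext (C.nu_inv _) hx (C.β_nu _)

theorem nu_zero : C.nu 0 = 1 :=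
  C.inv_ext (C.nu_inv 0) ⟨one_mem _, by rw [cj_one, inv_one]⟩ (by rw [C.β_nu, C.β_one])

theorem nu_neg (l : L) : C.nu (-l) = (C.nu l)⁻¹ :=
  C.inv_ext (C.nu_inv _) (S.isInv_inv (C.nu_inv l))
    (by rw [C.β_nu, C.β_inv (C.nu_inv l).1, C.β_nu])

theorem cj_nu {h : G} (hh : h ∈ S.H) (l : L) : cj h (C.nu l) = C.nu (C.ξ h * l) :=
  C.inv_ext (S.cj_inv_set hh (C.nu_inv l)) (C.nu_inv _)
    (by rw [C.β_cj h hh _ (C.nu_inv l).1, C.β_nu, C.β_nu])

theorem Z0_nu {z : G} (hz : z ∈ S.Z0) (l : L) : Commute z (C.nu l) :=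
  S.Z0_comm_inv hz (C.nu_inv l)

theorem nu_mul (x y : L) : ∃ z ∈ S.Z0, C.nu x * C.nu y = z * C.nu (x + y) := by
  obtain ⟨z, hz, w, hw, e⟩ := S.decomp (mul_mem (C.nu_inv x).1 (C.nu_inv y).1)
  refine ⟨z, hz, ?_⟩
  have h := congrArg C.β e
  rw [C.β_mul _ (C.nu_inv x).1 _ (C.nu_inv y).1, C.β_nu, C.β_nu,
    C.β_mul _ (S.mem_Z0.1 hz).1 _ hw.1, C.β_Z0 hz, zero_add] at h
  rw [h, C.nu_β hw]
  exact e

/-- The commutator form. -/
noncomputable def form (x y : L) : G := C.nu x * C.nu y * (C.nu x)⁻¹ * (C.nu y)⁻¹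

theorem form_mem (x y : L) : C.form x y ∈ S.Z0 := S.commutator_mem (C.nu_inv x).1 (C.nu_inv y).1

theorem Z0_form {z : G} (hz : z ∈ S.Z0) (x y : L) : Commute z (C.form x y) :=
  ((((C.Z0_nu hz x).mul_right (C.Z0_nu hz y)).mul_right (C.Z0_nu hz x).inv_right)).mul_right
    (C.Z0_nu hz y).inv_right

theorem form_add_left (x y w : L) : C.form (x + y) w = C.form x w * C.form y w := by
  obtain ⟨z, hz, e⟩ := C.nu_mul x y
  have e1 : C.form (x + y) w =
      C.nu x * C.nu y * C.nu w * (C.nu x * C.nu y)⁻¹ * (C.nu w)⁻¹ := by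
    rw [e]
    have h1 : z * (C.form (x + y) w) * z⁻¹ = C.form (x + y) w := by
      rw [(C.Z0_form hz _ _).eq, mul_inv_cancel_right]
    have h2 : (C.nu w)⁻¹ * z⁻¹ = z⁻¹ * (C.nu w)⁻¹ :=
      ((C.Z0_nu hz w).inv_left.inv_right).eq.symm
    rw [← h1, form]
    simp only [mul_inv_rev, mul_assoc]
    rw [h2]
  rw [e1, (C.Z0_form (C.form_mem x w) y w).eq]
  have h3 : C.nu x * C.form y w * (C.nu x)⁻¹ = C.form y w := by
    rw [← (C.Z0_nu (C.form_mem y w) x).eq, mul_inv_cancel_right]
  calc C.nu x * C.nu y * C.nu w * (C.nu x * C.nu y)⁻¹ * (C.nu w)⁻¹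
      = C.nu x * C.form y w * (C.nu x)⁻¹ * C.form x w := by simp only [form]; group
    _ = C.form y w * C.form x w := by rw [h3]

theorem form_swap (x y : L) : C.form y x = (C.form x y)⁻¹ := by simp only [form]; group

theorem form_add_right (x y w : L) : C.form w (x + y) = C.form w x * C.form w y := by
  rw [C.form_swap, C.form_add_left, C.form_swap w x, C.form_swap w y, mul_inv_rev, inv_inv, inv_inv]
  exact (C.Z0_form (C.form_mem w y) w x).eq

theorem form_self (x : L) : C.form x x = 1 := by simp only [form]; group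

theorem form_zero_left (y : L) : C.form 0 y = 1 := by simp only [form, C.nu_zero]; group

theorem form_neg_left (x y : L) : C.form (-x) y = (C.form x y)⁻¹ := by
  refine eq_inv_of_mul_eq_one_left ?_
  rw [← C.form_add_left, neg_add_cancel, C.form_zero_left]

theorem form_neg_right (x y : L) : C.form x (-y) = (C.form x y)⁻¹ := by
  rw [C.form_swap, C.form_neg_left, C.form_swap x y, inv_inv]

theorem form_zsmul_left (k : ℤ) (x y : L) : C.form (k * x) y = C.form x y ^ k := by
  induction k using Int.induction_on with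
  | zero => simp [C.form_zero_left]
  | succ i ih => rw [Int.cast_add, Int.cast_one, add_mul, one_mul, C.form_add_left, ih, zpow_add_one]
  | pred i ih =>
    rw [Int.cast_sub, Int.cast_one, sub_mul, one_mul, sub_eq_add_neg, C.form_add_left, ih,
      C.form_neg_left, zpow_sub_one]

theorem form_zsmul_right (k : ℤ) (x y : L) : C.form x (k * y) = C.form x y ^ k := by
  rw [C.form_swap, C.form_zsmul_left, ← inv_zpow, ← C.form_swap]

theorem cj_form {h : G} (hh : h ∈ S.H) (x y : L) :
    cj h (C.form x y) = C.form (C.ξ h * x) (C.ξ h * y) := by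
  simp only [form, cj_mul, cj_inv, C.cj_nu hh]

/-- The scalars adjoint to their conjugates. -/
def adjRing : Subring L where
  carrier := {c | ∀ x y, C.form (c * x) y = C.form x (κ c * y)}
  one_mem' x y := by rw [one_mul, map_one, one_mul]
  mul_mem' {c c'} hc hc' x y := by rw [mul_assoc, hc, hc', map_mul, ← mul_assoc, mul_comm (κ c)]
  zero_mem' x y := by
    rw [zero_mul, map_zero, zero_mul, C.form_zero_left, C.form_swap, C.form_zero_left, inv_one]
  add_mem' {c c'} hc hc' x y := by
    rw [add_mul, C.form_add_left, map_add, add_mul, C.form_add_right, hc, hc']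
  neg_mem' {c} hc x y := by rw [neg_mul, C.form_neg_left, map_neg, neg_mul, C.form_neg_right, hc]

theorem exists_int {x : L} (hn : n = 1) (hx : κ x = x) : ∃ k : ℤ, x = k := by
  classical
  haveI : CharP L p := inferInstance
  let f : ZMod p → fixedSub (cnj p n) := fun k => ⟨ZMod.castHom dvd_rfl L k, by
    rw [mem_fixedSub, cnj_apply]
    rw [← map_pow, show p ^ n = p by simp [hn], ZMod.pow_card]⟩
  have hinj : Function.Injective f := fun a b e =>
    RingHom.injective (ZMod.castHom dvd_rfl L) (congrArg Subtype.val e)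
  haveI : Finite (fixedSub (cnj p n)) := Nat.finite_of_card_ne_zero (by
    rw [card_real (by omega)]; exact (pow_pos (Fact.out : p.Prime).pos _).ne')
  haveI := Fintype.ofFinite (fixedSub (cnj p n))
  have hbij : Function.Bijective f := (Fintype.bijective_iff_injective_and_card f).2 ⟨hinj, by
    rw [ZMod.card, ← Nat.card_eq_fintype_card, card_real (by omega)]; simp [hn]⟩
  obtain ⟨k, hk⟩ := hbij.2 ⟨x, hx⟩
  refine ⟨(k.val : ℤ), ?_⟩
  rw [Int.cast_natCast]
  refine (congrArg Subtype.val hk).symm.trans ?_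
  show ZMod.castHom dvd_rfl L k = (k.val : L)
  rw [← map_natCast (ZMod.castHom dvd_rfl L), ZMod.natCast_zmod_val]

theorem adjRing_eq_top : C.adjRing = ⊤ := by
  have hσ := cnj_isInvol (p := p) (n := n) (by have := S.pos; omega)
  have h2 : (2 : L) ≠ 0 := two_ne_galois S.odd
  rcases Nat.lt_or_ge n 2 with hn | hn
  · have hn1 : n = 1 := by have := S.pos; omega
    obtain ⟨i, hi0, hi⟩ := hσ.exists_skew
    have hdec : ∀ x : L, ∃ k l : ℤ, x = k + l * i := by
      intro x
      obtain ⟨k, hk⟩ := exists_int (p := p) hn1 (x := (x + κ x) / 2) (by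
        rw [map_div₀, map_add, hσ.invol, map_ofNat, add_comm])
      obtain ⟨l, hl⟩ := exists_int (p := p) hn1 (x := (x - κ x) / (2 * i)) (by
        rw [map_div₀, map_sub, hσ.invol, map_mul, map_ofNat, hi]
        field_simp; ring)
      exact ⟨k, l, by rw [← hk, ← hl]; field_simp; ring⟩
    have hform : ∀ k l a b : ℤ, C.form (k + l * i) (a + b * i) = C.form 1 i ^ (k * b - l * a) := by
      intro k l a b
      have e1 : C.form 1 ((a : L) + b * i) = C.form 1 i ^ b := by
        rw [C.form_add_right, ← mul_one (a : L), C.form_zsmul_right, C.form_self, one_zpow, one_mul,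
          C.form_zsmul_right]
      have e2 : C.form i ((a : L) + b * i) = C.form 1 i ^ (-a) := by
        rw [C.form_add_right, C.form_zsmul_right b, C.form_self, one_zpow, mul_one, ← mul_one (a : L),
          C.form_zsmul_right, C.form_swap, inv_zpow, zpow_neg]
      rw [C.form_add_left, ← mul_one (k : L), C.form_zsmul_left, e1, C.form_zsmul_left, e2, ← zpow_mul,
        ← zpow_mul, ← zpow_add]
      ring_nf
    have hiA : i ∈ C.adjRing := by
      intro x y
      obtain ⟨u, v, rfl⟩ := hdec x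
      obtain ⟨a, b, rfl⟩ := hdec y
      obtain ⟨D, hD⟩ := exists_int (p := p) hn1 (x := i * i) (by rw [map_mul, hi]; ring)
      have e1 : i * ((u : L) + v * i) = ((v * D : ℤ) : L) + (u : L) * i := by
        push_cast; linear_combination (v : L) * hD
      have e2 : κ i * ((a : L) + b * i) = ((-(b * D) : ℤ) : L) + ((-a : ℤ) : L) * i := by
        rw [hi]; push_cast; linear_combination (-(b : L)) * hD
      rw [e1, e2, hform, hform]
      congr 1
      ring
    refine eq_top_iff.2 fun x _ => ?_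
    obtain ⟨k, l, rfl⟩ := hdec x
    exact add_mem (intCast_mem _ k) (mul_mem (intCast_mem _ l) hiA)
  · classical
    obtain ⟨r, ⟨hr, -, hrq, hN, hprim⟩, hwr⟩ := S.w_prime hn
    set w := C.ξ S.w with hw
    have hw1 : w ≠ 1 := fun h => S.w_ne (C.faithful S.w_mem h)
    have hwr' : w ^ r = 1 := by rw [hw, ← C.ξ_pow S.w_mem, hwr, C.ξ_one]
    have hwA : w ∈ C.adjRing := by
      intro x y
      have hκ : κ w = w⁻¹ := by
        refine eq_inv_of_mul_eq_one_left ?_
        rw [cnj_apply, ← pow_succ]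
        obtain ⟨c, hc⟩ := hrq
        rw [hc, pow_mul, hwr', one_pow]
      have h0 := C.ξ_ne S.w_mem
      rw [hκ]
      have hfix : cj S.w (C.form x (w⁻¹ * y)) = C.form x (w⁻¹ * y) := by
        have h1 := C.form_mem x (w⁻¹ * y)
        rw [← S.cU_w_Z0] at h1
        exact cj_eq_iff.2 (S.mem_cU.1 h1).2
      rw [C.cj_form S.w_mem, ← hw, mul_inv_cancel_left₀ (by rw [hw]; exact h0)] at hfix
      exact hfix
    haveI : Finite L := Nat.finite_of_card_ne_zero (by
      rw [C.card_field]; exact (pow_pos (pow_pos S.prime.pos _) 2).ne')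
    let A := C.adjRing.toAddSubgroup
    have hAc : Nat.card (Multiplicative L) = p ^ (2 * n) :=
      (Nat.card_congr Multiplicative.toAdd).trans (GaloisField.card p (2 * n) (by omega))
    obtain ⟨j, hj2, hj⟩ := (Nat.dvd_prime_pow S.prime).1
      ((GaloisField.card p (2 * n) (by omega)) ▸ AddSubgroup.card_addSubgroup_dvd_card A)
    let σ : Equiv.Perm C.adjRing :=
      { toFun := fun x => ⟨w, hwA⟩ * x
        invFun := fun x => (⟨w, hwA⟩ : C.adjRing) ^ (r - 1) * x
        left_inv := fun x => by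
          show (⟨w, hwA⟩ : C.adjRing) ^ (r - 1) * (⟨w, hwA⟩ * x) = x
          rw [← mul_assoc, ← pow_succ, show r - 1 + 1 = r by have := hr.two_le; omega]
          exact Subtype.ext (by simp [hwr'])
        right_inv := fun x => by
          show (⟨w, hwA⟩ : C.adjRing) * ((⟨w, hwA⟩ : C.adjRing) ^ (r - 1) * x) = x
          rw [← mul_assoc, ← pow_succ', show r - 1 + 1 = r by have := hr.two_le; omega]
          exact Subtype.ext (by simp [hwr']) }
    have hσk : ∀ (k : ℕ) (x : C.adjRing), ((σ ^ k) x : L) = w ^ k * x := by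
      intro k
      induction k with
      | zero => simp
      | succ k ih =>
        intro x
        rw [pow_succ', Equiv.Perm.mul_apply]
        show w * ((σ ^ k) x : L) = _
        rw [ih, pow_succ']; ring
    have hmod := modEq_fixed hr σ (Equiv.ext fun x => Subtype.ext (by simp [hσk, hwr']))
    have hfix : Nat.card {x : C.adjRing // σ x = x} = 1 := by
      rw [Nat.card_eq_one_iff_unique]
      refine ⟨⟨fun x y => ?_⟩, ⟨⟨0, Subtype.ext (mul_zero w)⟩⟩⟩
      have : ∀ z : {x : C.adjRing // σ x = x}, (z.1 : L) = 0 := fun z => by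
        have h := congrArg Subtype.val z.2
        by_contra hne
        exact hw1 ((mul_eq_right₀ hne).1 h)
      exact Subtype.ext (Subtype.ext ((this x).trans (this y).symm))
    have hjA : Nat.card C.adjRing = p ^ j := hj
    rw [hfix, hjA] at hmod
    have hj0 : j ≠ 0 := fun h => by
      rw [h, pow_zero, Nat.card_eq_one_iff_unique] at hjA
      exact one_ne_zero (congrArg Subtype.val (hjA.1.elim (1 : C.adjRing) 0))
    have h1 : r ∣ p ^ j - 1 := (Nat.modEq_iff_dvd' (Nat.one_le_pow _ _ S.prime.pos)).1 hmod.symm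
    rcases prim_eq hN hprim S.prime.pos h1 (by omega) with h | h
    · exact absurd h hj0
    · refine Subring.toAddSubgroup_injective ?_
      exact AddSubgroup.eq_top_of_card_eq _ (by
        rw [hj, h, GaloisField.card p (2 * n) (by omega)])

/-- The form as a function of `x̄ y`. -/
noncomputable def psi (c : L) : G := C.form 1 c

theorem form_eq (x y : L) : C.form x y = C.psi (κ x * y) := by
  have h : x ∈ C.adjRing := C.adjRing_eq_top ▸ Subring.mem_top x
  have := h 1 y
  rwa [mul_one] at this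

theorem psi_add (x y : L) : C.psi (x + y) = C.psi x * C.psi y := C.form_add_right x y 1

theorem psi_mem (x : L) : C.psi x ∈ S.Z0 := C.form_mem 1 x

theorem cj_psi {h : G} (hh : h ∈ S.H) (c : L) :
    cj h (C.psi c) = C.psi (κ (C.ξ h) * C.ξ h * c) := by
  rw [psi, C.cj_form hh, C.form_eq, mul_one, mul_assoc]

theorem psi_norm (x : L) : C.psi (κ x * x) = 1 := by rw [← C.form_eq, C.form_self]

theorem psi_real {c : L} (hc : κ c = c) : C.psi c = 1 := by
  haveI : Finite L := Nat.finite_of_card_ne_zero (by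
    rw [C.card_field]; exact (pow_pos (pow_pos S.prime.pos _) 2).ne')
  obtain ⟨x, rfl⟩ := (cnj_isInvol (p := p) (n := n) (by have := S.pos; omega)).exists_norm_eq hc
  rw [mul_comm]
  exact C.psi_norm x

end Scalars

namespace Swap

variable {G : Type u} {Ω : Type v} [Group G] [MulAction G Ω] [Finite G] [FaithfulSMul G Ω]
  {p n d : ℕ} [Fact p.Prime] {S : Hyp G Ω p n d} (W : Swap S) (C : Scalars S) (hs : W.s ∈ S.refl)

local notation "L" => GaloisField p (2 * n)
local notation "κ" => cnj p n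

include C hs

theorem exists_norm_field {r : L} (hr0 : r ≠ 0) (hr : κ r = r) :
    ∃ h ∈ S.H, κ (C.ξ h) * C.ξ h = r := by
  have h1 : r ^ (p ^ n - 1) = 1 := by
    have hq := S.q_ge
    refine mul_left_cancel₀ hr0 ?_
    rw [mul_one, ← pow_succ', show p ^ n - 1 + 1 = p ^ n by omega, ← cnj_apply, hr]
  obtain ⟨g, hg, e, hgp⟩ := W.exists_root C hs h1
  obtain ⟨h, hh, hpow⟩ := W.exists_norm C hs hg hgp
  refine ⟨h, hh, ?_⟩
  rw [← e, ← hpow, C.ξ_pow hh, pow_succ, cnj_apply]

theorem psi_skew_inj {e : L} (he : κ e = -e) (h : C.psi e = 1) : e = 0 := by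
  by_contra he0
  apply W.not_all_commute C hs
  intro x y hx hy
  have hall : ∀ c : L, C.psi c = 1 := by
    intro c
    have hσ := cnj_isInvol (p := p) (n := n) (by have := S.pos; omega)
    have h2 : (2 : L) ≠ 0 := two_ne_galois S.odd
    have hr1 : κ ((c + κ c) / 2) = (c + κ c) / 2 := by
      rw [map_div₀, map_add, hσ.invol, map_ofNat, add_comm]
    set r := (c - κ c) / (2 * e) with hr
    have hr2 : κ r = r := by
      rw [hr, map_div₀, map_sub, hσ.invol, map_mul, map_ofNat, he]
      field_simp; ring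
    have hc : c = (c + κ c) / 2 + r * e := by rw [hr]; field_simp; ring
    rw [hc, C.psi_add, C.psi_real hr1, one_mul]
    by_cases hr0 : r = 0
    · rw [hr0, zero_mul]
      exact C.psi_real (map_zero _)
    · obtain ⟨g, hg, e'⟩ := W.exists_norm_field C hs hr0 hr2
      rw [← e', ← C.cj_psi hg, h, cj_one]
  have h1 : C.form (C.β x) (C.β y) = 1 := by rw [C.form_eq]; exact hall _
  rw [Scalars.form, C.nu_β hx, C.nu_β hy] at h1
  exact (mul_inv_eq_iff_eq_mul.1 (mul_inv_eq_one.1 h1))

/-- The parametrisation of `Z₀` by the elements of trace `0`. -/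
noncomputable def iota (W : Swap S) (C : Scalars S) (z : L) : G := C.psi (-z / 2)

omit hs in
theorem iota_mem (z : L) : W.iota C z ∈ S.Z0 := C.psi_mem _

omit hs in
theorem iota_add (y z : L) : W.iota C (y + z) = W.iota C y * W.iota C z := by
  rw [iota, iota, iota, ← C.psi_add]
  congr 1
  ring

theorem iota_inj {y z : L} (hy : κ y = -y) (hz : κ z = -z) (h : W.iota C y = W.iota C z) : y = z := by
  have h2 : (2 : L) ≠ 0 := two_ne_galois S.odd
  have e : W.iota C (y - z) = 1 := by
    have h3 := W.iota_add C (y - z) z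
    rw [sub_add_cancel, h] at h3
    exact (mul_eq_right.1 h3.symm)
  have h4 := W.psi_skew_inj C hs (e := -(y - z) / 2) (by
    rw [map_div₀, map_neg, map_sub, map_ofNat, hy, hz]; ring) e
  rw [div_eq_zero_iff, neg_eq_zero, sub_eq_zero] at h4
  exact h4.resolve_right h2

theorem exists_iota {x : G} (hx : x ∈ S.Z0) : ∃ z : L, κ z = -z ∧ W.iota C z = x := by
  classical
  have hn : n ≠ 0 := by have := S.pos; omega
  have hσ := cnj_isInvol (p := p) hn
  haveI : Finite L := Nat.finite_of_card_ne_zero (by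
    rw [C.card_field]; exact (pow_pos (pow_pos S.prime.pos _) 2).ne')
  obtain ⟨e0, he0, he⟩ := hσ.exists_skew
  let f : fixedSub (cnj p n) → S.Z0 := fun r => ⟨W.iota C ((r : L) * e0), W.iota_mem C _⟩
  have hskew : ∀ r : fixedSub (cnj p n), κ ((r : L) * e0) = -((r : L) * e0) := fun r => by
    rw [map_mul, he, mem_fixedSub.1 r.2]; ring
  have hf : Function.Injective f := fun a b e => Subtype.ext
    (mul_right_cancel₀ he0 (W.iota_inj C hs (hskew a) (hskew b) (congrArg Subtype.val e)))
  have hbij : Function.Bijective f := (Nat.bijective_iff_injective_and_card f).2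
    ⟨hf, by rw [card_real hn, S.card_Z0]⟩
  obtain ⟨r, hr⟩ := hbij.2 ⟨x, hx⟩
  exact ⟨_, hskew r, congrArg Subtype.val hr⟩

theorem Z0_comm {x y : G} (hx : x ∈ S.Z0) (hy : y ∈ S.Z0) : x * y = y * x := by
  obtain ⟨a, -, rfl⟩ := W.exists_iota C hs hx
  obtain ⟨b, -, rfl⟩ := W.exists_iota C hs hy
  rw [← W.iota_add, ← W.iota_add, add_comm]

omit hs in
theorem cj_iota {h : G} (hh : h ∈ S.H) (z : L) :
    cj h (W.iota C z) = W.iota C (κ (C.ξ h) * C.ξ h * z) := by
  rw [iota, iota, C.cj_psi hh]
  congr 1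
  ring

end Swap

/-- The condition of being a point of the unital. -/
def OnU {p n : ℕ} [Fact p.Prime] (x : GaloisField p (2 * n) × GaloisField p (2 * n)) : Prop :=
  x.1 + cnj p n x.1 + cnj p n x.2 * x.2 = 0

/-- The element of a point. -/
noncomputable def Swap.mk' {G : Type u} {Ω : Type v} [Group G] [MulAction G Ω] [Finite G]
    {p n d : ℕ} [Fact p.Prime] [FaithfulSMul G Ω] {S : Hyp G Ω p n d} (W : Swap S) (C : Scalars S)
    (x : GaloisField p (2 * n) × GaloisField p (2 * n)) : G :=
  W.iota C (x.1 + cnj p n x.2 * x.2 / 2) * C.nu x.2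

namespace Swap

variable {G : Type u} {Ω : Type v} [Group G] [MulAction G Ω] [Finite G] [FaithfulSMul G Ω]
  {p n d : ℕ} [Fact p.Prime] {S : Hyp G Ω p n d} (W : Swap S) (C : Scalars S) (hs : W.s ∈ S.refl)

local notation "L" => GaloisField p (2 * n)
local notation "κ" => cnj p n

include C

theorem skew_of_onU {x : L × L} (hx : OnU x) :
    κ (x.1 + κ x.2 * x.2 / 2) = -(x.1 + κ x.2 * x.2 / 2) := by
  have h2 : (2 : L) ≠ 0 := two_ne_galois S.odd
  have hσ := cnj_isInvol (p := p) (n := n) (by have := S.pos; omega)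
  rw [map_add, map_div₀, map_mul, hσ.invol, map_ofNat]
  have h : x.1 + κ x.1 + κ x.2 * x.2 = 0 := hx
  field_simp
  linear_combination 2 * h

theorem mk'_mem (x : L × L) : W.mk' C x ∈ S.U :=
  mul_mem (S.mem_Z0.1 (W.iota_mem C _)).1 (C.nu_inv _).1

theorem β_mk' (x : L × L) : C.β (W.mk' C x) = x.2 := by
  rw [mk', C.β_mul _ (S.mem_Z0.1 (W.iota_mem C _)).1 _ (C.nu_inv _).1, C.β_Z0 (W.iota_mem C _),
    zero_add, C.β_nu]

include hs

theorem mk'_inj {x y : L × L} (hx : OnU x) (hy : OnU y) (h : W.mk' C x = W.mk' C y) : x = y := by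
  have h2 : x.2 = y.2 := by rw [← W.β_mk' C x, h, W.β_mk' C]
  have h1 := h
  rw [mk', mk', h2] at h1
  have e := W.iota_inj C hs (h2 ▸ skew_of_onU C hx) (skew_of_onU C hy) (mul_right_cancel h1)
  exact Prod.ext (add_right_cancel e) h2

theorem exists_mk' {u : G} (hu : u ∈ S.U) : ∃ x : L × L, OnU x ∧ W.mk' C x = u := by
  obtain ⟨z, hz, v, hv, rfl⟩ := S.decomp hu
  obtain ⟨e, he, rfl⟩ := W.exists_iota C hs hz
  have hσ := cnj_isInvol (p := p) (n := n) (by have := S.pos; omega)
  have h2 : (2 : L) ≠ 0 := two_ne_galois S.odd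
  refine ⟨(e - κ (C.β v) * C.β v / 2, C.β v), ?_, ?_⟩
  · unfold OnU
    rw [map_sub, map_div₀, map_mul, hσ.invol, map_ofNat, he]
    field_simp; ring
  · rw [mk', sub_add_cancel, C.nu_β hv]

omit hs in
theorem iota_sq_eq {a b : L} {z : G} (hz : z ∈ S.Z0)
    (h : C.nu a * C.nu b = z * C.nu (a + b)) : z = W.iota C (-(κ a * b - κ b * a) / 2) := by
  have h2 : (2 : L) ≠ 0 := two_ne_galois S.odd
  have hσ := cnj_isInvol (p := p) (n := n) (by have := S.pos; omega)
  have e1 : (C.nu a)⁻¹ * (C.nu b)⁻¹ = z * (C.nu (a + b))⁻¹ := by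
    have := congrArg (cj S.t) h
    simpa only [cj_mul, (C.nu_inv a).2, (C.nu_inv b).2, (C.nu_inv (a + b)).2, (S.mem_Z0.1 hz).2] using this
  have e2 : C.form a b = z * z := by
    rw [Scalars.form, mul_assoc, e1, h, mul_assoc, ← mul_assoc (C.nu (a + b)),
      ← (C.Z0_nu hz (a + b)).eq, mul_assoc, mul_inv_cancel, mul_one]
  refine S.eq_of_sq (S.mem_Z0.1 hz).1 (S.mem_Z0.1 (W.iota_mem C _)).1 ?_
  rw [← e2, C.form_eq, iota, ← C.psi_add]
  have hreal : κ ((κ a * b + κ b * a) / 2) = (κ a * b + κ b * a) / 2 := by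
    rw [map_div₀, map_add, map_mul, map_mul, hσ.invol, hσ.invol, map_ofNat]; ring
  have : κ a * b = (κ a * b + κ b * a) / 2 +
      (-(-(κ a * b - κ b * a) / 2) / 2 + -(-(κ a * b - κ b * a) / 2) / 2) := by
    field_simp; ring
  conv_lhs => rw [this]
  rw [C.psi_add, C.psi_real hreal, one_mul]

omit hs in
theorem mk'_mul (x y : L × L) :
    W.mk' C x * W.mk' C y = W.mk' C (x.1 + y.1 - κ x.2 * y.2, x.2 + y.2) := by
  have h2 : (2 : L) ≠ 0 := two_ne_galois S.odd
  obtain ⟨z, hz, e⟩ := C.nu_mul x.2 y.2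
  have hz' := W.iota_sq_eq C hz e
  have hc : C.nu x.2 * W.iota C (y.1 + κ y.2 * y.2 / 2) = W.iota C (y.1 + κ y.2 * y.2 / 2) * C.nu x.2 :=
    (C.Z0_nu (W.iota_mem C _) _).eq.symm
  simp only [mk']
  rw [mul_assoc, ← mul_assoc (C.nu x.2), hc, mul_assoc, e, hz', ← mul_assoc, ← mul_assoc,
    ← W.iota_add, ← W.iota_add]
  congr 2
  rw [map_add]
  field_simp
  ring

omit hs in
theorem cj_mk' {h : G} (hh : h ∈ S.H) (x : L × L) :
    cj h (W.mk' C x) = W.mk' C (κ (C.ξ h) * C.ξ h * x.1, C.ξ h * x.2) := by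
  simp only [mk']
  rw [cj_mul, W.cj_iota C hh, C.cj_nu hh, map_mul]
  congr 2
  ring

end Swap

end CfsgLib.LocalEvenB.OddUnitary
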