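import Cfsg.Agent.Lib.LocalEvenB.OddUnitary.Special
import Cfsg.Agent.Lib.Core.FPFSymThreeBasic
import Cfsg.Agent.Lib.PGroups.Basic

/-!
Owner: helper20. `U = Z₀ I` with `Z₀ = C_U(t)` of order `q` containing `U'` and `I` the set of the
elements inverted by `t`; the two commute elementwise.
-/

set_option autoImplicit false
set_option linter.all false

universe u v

namespace CfsgLib.LocalEvenB.OddUnitary

namespace Hyp

variable {G : Type u} {Ω : Type v} [Group G] [MulAction G Ω] [Finite G] [FaithfulSMul G Ω]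
  {p n d : ℕ} (S : Hyp G Ω p n d)

/-- `C_U(t)`. -/
noncomputable def Z0 : Subgroup G := S.cU S.t

/-- The elements of `U` inverted by `t`. -/
def IsInv (x : G) : Prop := x ∈ S.U ∧ cj S.t x = x⁻¹

theorem mem_Z0 {x : G} : x ∈ S.Z0 ↔ x ∈ S.U ∧ cj S.t x = x := by
  rw [Z0, S.mem_cU, cj_eq_iff]

theorem card_Z0 : Nat.card S.Z0 = p ^ n := S.card_cU_t

theorem cU_w_Z0 : S.cU S.w = S.Z0 := S.cU_w_eq

theorem cj_Z0 {h x : G} (hh : h ∈ S.H) (hx : x ∈ S.Z0) : cj h x ∈ S.Z0 := by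
  refine S.mem_Z0.2 ⟨S.cj_mem_U hh (S.mem_Z0.1 hx).1, ?_⟩
  rw [cj_cj, S.H_comm S.t_mem hh, ← cj_cj, (S.mem_Z0.1 hx).2]

theorem cj_inv_set {h x : G} (hh : h ∈ S.H) (hx : S.IsInv x) : S.IsInv (cj h x) := by
  refine ⟨S.cj_mem_U hh hx.1, ?_⟩
  rw [cj_cj, S.H_comm S.t_mem hh, ← cj_cj, hx.2, cj_inv]

theorem isInv_inv {x : G} (hx : S.IsInv x) : S.IsInv x⁻¹ := ⟨inv_mem hx.1, by rw [cj_inv, hx.2]⟩

theorem isInv_sq {x : G} (hx : S.IsInv x) : S.IsInv (x * x) :=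
  ⟨mul_mem hx.1 hx.1, by rw [cj_mul, hx.2]; group⟩

theorem eq_one_of_inv_Z0 {x : G} (hx : S.IsInv x) (hz : x ∈ S.Z0) : x = 1 :=
  S.U_no_inv hx.1 (by rw [mul_eq_one_iff_eq_inv]; exact (S.mem_Z0.1 hz).2.symm.trans hx.2)

/-- The `I`-part. -/
noncomputable def invPart (u : G) : G := S.sqU ((cj S.t u)⁻¹ * u)

theorem invPart_spec {u : G} (hu : u ∈ S.U) :
    S.IsInv (S.invPart u) ∧ u * (S.invPart u)⁻¹ ∈ S.Z0 := by
  have hy : (cj S.t u)⁻¹ * u ∈ S.U := mul_mem (inv_mem (S.cj_mem_U S.t_mem hu)) hu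
  have hy2 : cj S.t ((cj S.t u)⁻¹ * u) = ((cj S.t u)⁻¹ * u)⁻¹ := by
    rw [cj_mul, cj_inv, S.cj_t_t, mul_inv_rev, inv_inv]
  have hπ : S.IsInv (S.invPart u) := ⟨S.sqU_mem hy, S.sqU_cj hy2⟩
  refine ⟨hπ, S.mem_Z0.2 ⟨mul_mem hu (inv_mem hπ.1), ?_⟩⟩
  have hsq : S.invPart u * S.invPart u = (cj S.t u)⁻¹ * u := S.sqU_sq hy
  rw [cj_mul, cj_inv, hπ.2, inv_inv]
  have : cj S.t u = u * (S.invPart u * S.invPart u)⁻¹ := by rw [hsq]; group
  rw [this]
  group

theorem decomp {u : G} (hu : u ∈ S.U) :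
    ∃ z ∈ S.Z0, ∃ x, S.IsInv x ∧ u = z * x :=
  ⟨_, (S.invPart_spec hu).2, _, (S.invPart_spec hu).1, by group⟩

theorem decomp_unique' {z z' x x' : G} (hz : z ∈ S.Z0) (hz' : z' ∈ S.Z0) (hx : S.IsInv x)
    (hx' : S.IsInv x') (e : z * x = z' * x') : z = z' ∧ x = x' := by
  have h1 : z⁻¹ * z' = x * x'⁻¹ := by
    rw [inv_mul_eq_iff_eq_mul, ← mul_assoc, e, mul_inv_cancel_right]
  have h2 : cj S.t (x * x'⁻¹) = x * x'⁻¹ := (S.mem_Z0.1 (h1 ▸ mul_mem (inv_mem hz) hz')).2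
  rw [cj_mul, cj_inv, hx.2, hx'.2, inv_inv] at h2
  have h3 : x * x = x' * x' := by
    have := congrArg (fun y => x * y * x') h2
    simpa [mul_assoc] using this.symm
  have h4 := S.eq_of_sq hx.1 hx'.1 h3
  exact ⟨mul_right_cancel (h4 ▸ e : z * x' = z' * x'), h4⟩

/-! ### The derived group -/

theorem commutator_U_le : ⁅S.U, S.U⁆ ≤ S.U :=
  Subgroup.commutator_le.2 fun x hx y hy => by
    rw [commutatorElement_def]
    exact mul_mem (mul_mem (mul_mem hx hy) (inv_mem hx)) (inv_mem hy)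

theorem cj_commutator_U {h x : G} (hh : h ∈ S.H) (hx : x ∈ ⁅S.U, S.U⁆) : cj h x ∈ ⁅S.U, S.U⁆ := by
  have hmap : ⁅S.U, S.U⁆.map (MulAut.conj h).toMonoidHom ≤ ⁅S.U, S.U⁆ := by
    rw [Subgroup.map_commutator]
    refine Subgroup.commutator_mono ?_ ?_ <;>
    · rintro _ ⟨u, hu, rfl⟩
      exact S.cj_mem_U hh hu
  exact hmap (Subgroup.mem_map_of_mem _ hx)

theorem isPGroup_U : IsPGroup p S.U := IsPGroup.of_card S.card_U

theorem commutator_le_Z0 : ⁅S.U, S.U⁆ ≤ S.Z0 := by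
  haveI := Fact.mk S.prime
  obtain ⟨k, hk3, hk⟩ := (Nat.dvd_prime_pow S.prime).1
    (S.card_U ▸ Subgroup.card_dvd_of_le S.commutator_U_le)
  rcases Nat.lt_or_ge k (2 * n) with hlt | hge
  · intro x hx
    rw [← S.cU_w_Z0]
    exact S.mem_cU.2 ⟨S.commutator_U_le hx,
      S.w_comm_small _ (fun h hh y hy => S.cj_commutator_U hh hy) hk hlt hx⟩
  exfalso
  haveI : Group.IsNilpotent S.U := S.isPGroup_U.isNilpotent
  set N : Subgroup S.U := commutator S.U with hN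
  have hNcard : Nat.card N = p ^ k := by
    rw [← hk, ← Subgroup.map_subtype_commutator, Subgroup.card_map_of_injective Subtype.val_injective]
  have hQcard : Nat.card (S.U ⧸ N) = p ^ (3 * n - k) := by
    have h := Subgroup.card_eq_card_quotient_mul_card_subgroup N
    rw [hNcard, S.card_U] at h
    refine Nat.eq_of_mul_eq_mul_right (pow_pos S.prime.pos k) (h.symm.trans ?_)
    rw [← pow_add]; congr 1; omega
  let θ : S.H →* MulAut S.U := S.conjHom S.U fun h hh x hx => S.cj_mem_U hh hx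
  have hch : ∀ e : MulAut S.U, N.map (e : S.U →* S.U) = N := fun e =>
    Subgroup.characteristic_iff_map_eq.1 inferInstance e
  let φ : S.H →* MulAut (S.U ⧸ N) :=
    { toFun := fun h => QuotientGroup.congr N N (θ h) (hch _)
      map_one' := by ext x; induction x using QuotientGroup.induction_on; simp
      map_mul' := fun h h' => by ext x; induction x using QuotientGroup.induction_on; simp }
  have hφ := S.w_small (S.U ⧸ N) (3 * n - k) hQcard (by have := S.pos; omega) φ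
  set A := Subgroup.zpowers (⟨S.w, S.w_mem⟩ : S.H) with hA
  have hsame : ∀ (g : A) (x : S.U), x⁻¹ * θ g x ∈ N := by
    intro g x
    rw [← QuotientGroup.eq]
    have h1 : φ g = 1 := by
      obtain ⟨i, hi⟩ := Subgroup.mem_zpowers_iff.1 g.2
      rw [← hi, map_zpow, hφ, one_zpow]
    exact (DFunLike.congr_fun h1 (x : S.U ⧸ N)).symm
  have hcop : (Nat.card A).Coprime (Nat.card N) := by
    rw [hA, Nat.card_zpowers, hNcard]
    refine Nat.Coprime.pow_right _ ?_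
    rw [Nat.coprime_comm, S.prime.coprime_iff_not_dvd]
    intro h
    have h1 : orderOf (⟨S.w, S.w_mem⟩ : S.H) ∣ p ^ n + 1 :=
      orderOf_dvd_of_pow_eq_one (Subtype.ext S.w_pow)
    have h2 := Nat.dvd_sub (h.trans h1) (dvd_pow_self p (by have := S.pos; omega : n ≠ 0))
    rw [Nat.add_sub_cancel_left] at h2
    exact S.prime.ne_one (Nat.dvd_one.1 h2)
  have htop : S.Z0.subgroupOf S.U ⊔ N = ⊤ := by
    rw [eq_top_iff]
    rintro x -
    obtain ⟨m, hm, hfix⟩ := CfsgLib.Core.FPFSymThree.exists_fixed_in_coset (θ.comp A.subtype) N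
      (fun g m hm => by
        have := Subgroup.mem_map_of_mem ((θ g : MulAut S.U) : S.U →* S.U) hm
        rwa [hch] at this)
      hcop (haveI : Group.IsNilpotent N := (IsPGroup.of_card (p := p) hNcard).isNilpotent; inferInstance) x
      (fun g => hsame g x)
    have h1 : (x * m : S.U) ∈ S.Z0.subgroupOf S.U := by
      rw [Subgroup.mem_subgroupOf, ← S.cU_w_Z0]
      refine S.mem_cU.2 ⟨(x * m : S.U).2, ?_⟩
      have e : cj S.w ((x * m : S.U) : G) = ((x * m : S.U) : G) :=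
        congrArg Subtype.val (hfix ⟨_, Subgroup.mem_zpowers _⟩)
      exact cj_eq_iff.1 e
    have e2 : x = (x * m) * m⁻¹ := (mul_inv_cancel_right _ _).symm
    rw [e2]
    exact Subgroup.mul_mem_sup h1 (inv_mem hm)
  have hZ : S.Z0.subgroupOf S.U = ⊤ := frattini_nongenerating
    (eq_top_iff.2 (htop.ge.trans (sup_le_sup_left CfsgLib.PGroups.commutator_le_frattini _)))
  have h1 := S.card_Z0
  rw [← Nat.card_congr (Subgroup.subgroupOfEquivOfLe (show S.Z0 ≤ S.U from inf_le_left)).toEquiv,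
    hZ, Subgroup.card_top, S.card_U] at h1
  have := Nat.pow_right_injective S.prime.two_le h1
  have := S.pos
  omega

theorem commutator_mem {x y : G} (hx : x ∈ S.U) (hy : y ∈ S.U) : x * y * x⁻¹ * y⁻¹ ∈ S.Z0 := by
  rw [← commutatorElement_def]
  exact S.commutator_le_Z0 (Subgroup.commutator_mem_commutator hx hy)

theorem Z0_normal {u z : G} (hu : u ∈ S.U) (hz : z ∈ S.Z0) : cj u z ∈ S.Z0 := by
  have h := mul_mem (S.commutator_mem hu (S.mem_Z0.1 hz).1) hz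
  rwa [inv_mul_cancel_right] at h

/-- `Z₀` commutes with the elements inverted by `t`. -/
theorem Z0_comm_inv {z x : G} (hz : z ∈ S.Z0) (hx : S.IsInv x) : z * x = x * z := by
  set e := z * x * z⁻¹ * x⁻¹ with he
  have heZ : e ∈ S.Z0 := S.commutator_mem (S.mem_Z0.1 hz).1 hx.1
  have e1 : z * x * z⁻¹ = e * x := by rw [he]; group
  have e2 : z * x⁻¹ * z⁻¹ = e * x⁻¹ := by
    have := congrArg (cj S.t) e1
    simpa only [cj_mul, cj_inv, (S.mem_Z0.1 hz).2, (S.mem_Z0.1 heZ).2, hx.2] using this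
  have e3 : z * x⁻¹ * z⁻¹ = x⁻¹ * e⁻¹ := by
    have := congrArg (·⁻¹) e1
    simpa [mul_assoc] using this
  have e4 : x * e * x⁻¹ = e⁻¹ := by
    rw [mul_assoc, ← e2, e3, ← mul_assoc, mul_inv_cancel, one_mul]
  have e5 : Commute (x * x) e := by
    have h6 : x * x * e * (x * x)⁻¹ = e := by
      calc x * x * e * (x * x)⁻¹ = x * (x * e * x⁻¹) * x⁻¹ := by group
        _ = x * e⁻¹ * x⁻¹ := by rw [e4]
        _ = (x * e * x⁻¹)⁻¹ := by group
        _ = e := by rw [e4, inv_inv]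
    exact mul_inv_eq_iff_eq_mul.1 h6
  have e7 : Commute x e := by
    have : x = (x * x) ^ ((p ^ (3 * n) + 1) / 2) := by
      rw [(Commute.refl x).mul_pow]
      exact (S.sqU_sq hx.1).symm
    rw [this]
    exact e5.pow_left _
  rw [show x * e * x⁻¹ = e by rw [e7.eq, mul_inv_cancel_right]] at e4
  have e8 : e = 1 := S.U_no_inv (S.mem_Z0.1 heZ).1 (by nth_rewrite 2 [e4]; exact mul_inv_cancel e)
  rw [e8, one_mul] at e1
  exact mul_inv_eq_iff_eq_mul.1 e1

theorem cU_le_Z0 {h : G} (hh : h ∈ S.H) {u : G} (hu : u ∈ S.cU h)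
    (hinj : ∀ x, S.IsInv x → h * x = x * h → x = 1) : u ∈ S.Z0 := by
  obtain ⟨huU, huh⟩ := S.mem_cU.1 hu
  obtain ⟨z, hz, x, hx, rfl⟩ := S.decomp huU
  have e := cj_eq_iff.2 huh
  rw [cj_mul] at e
  obtain ⟨-, h2⟩ := S.decomp_unique' (S.cj_Z0 hh hz) hz (S.cj_inv_set hh hx) hx e
  rw [hinj x hx (cj_eq_iff.1 h2), mul_one]
  exact hz

end Hyp

end CfsgLib.LocalEvenB.OddUnitary
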