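import Cfsg.Agent.Lib.LocalEvenB.OddUnitary.Basic

/-!
Owner: helper20. The fixed points of the elements of `H`: the normaliser of `⟨h⟩` is doubly transitive
on them, which bounds the centraliser of `h` in `U` by `q`.
-/

set_option autoImplicit false
set_option linter.all false

namespace CfsgLib.LocalEvenB.OddUnitary

theorem zpowers_eq_of_cyclic {G : Type*} [Group G] [Finite G] {H : Subgroup G} (hH : IsCyclic H)
    {x y : G} (hx : x ∈ H) (hy : y ∈ H) (h : orderOf x = orderOf y) :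
    Subgroup.zpowers x = Subgroup.zpowers y := by
  classical
  haveI := Fintype.ofFinite H
  haveI := hH
  set T : Finset H := Finset.univ.filter fun z : H => z ^ orderOf y = 1 with hT
  have hT' : T.card ≤ orderOf y := IsCyclic.card_pow_eq_one_le (orderOf_pos y)
  let i : Subgroup.zpowers y → H := fun z => ⟨z, Subgroup.zpowers_le.2 hy z.2⟩
  haveI := Fintype.ofFinite (Subgroup.zpowers y)
  have hi : Finset.univ.image i ⊆ T := fun z hz => by
    obtain ⟨w, -, rfl⟩ := Finset.mem_image.1 hz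
    refine Finset.mem_filter.2 ⟨Finset.mem_univ _, Subtype.ext ?_⟩
    obtain ⟨k, hk⟩ := Subgroup.mem_zpowers_iff.1 w.2
    show (w : G) ^ orderOf y = 1
    rw [← hk, ← zpow_natCast, ← zpow_mul, mul_comm k, zpow_mul, zpow_natCast, pow_orderOf_eq_one, one_zpow]
  have hinj : Function.Injective i := fun u v e =>
    Subtype.ext (Subtype.mk.inj e)
  have hcard : (Finset.univ.image i).card = orderOf y := by
    rw [Finset.card_image_of_injective _ hinj, Finset.card_univ, ← Nat.card_eq_fintype_card,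
      Nat.card_zpowers]
  have heq := Finset.eq_of_subset_of_card_le hi (hcard ▸ hT')
  have hxT : (⟨x, hx⟩ : H) ∈ T :=
    Finset.mem_filter.2 ⟨Finset.mem_univ _, Subtype.ext (by simp [← h, pow_orderOf_eq_one])⟩
  rw [← heq] at hxT
  obtain ⟨w, -, hw⟩ := Finset.mem_image.1 hxT
  refine Subgroup.eq_of_le_of_card_ge (Subgroup.zpowers_le.2 ?_) ?_
  · have : (w : G) = x := congrArg Subtype.val hw
    exact this ▸ w.2
  · rw [Nat.card_zpowers, Nat.card_zpowers, h]

theorem eq_or_three_mul_le {p m k : ℕ} (hp : 3 ≤ p) (h : (p : ℤ) ^ m + 1 ∣ (p : ℤ) ^ k + 1) :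
    m = 0 ∨ k = m ∨ 3 * m ≤ k := by
  rcases Nat.eq_zero_or_pos m with hm | hm
  · exact Or.inl hm
  have hp' : (3 : ℤ) ≤ p := by exact_mod_cast hp
  have hpos : ∀ j : ℕ, (1 : ℤ) ≤ (p : ℤ) ^ j := fun j => one_le_pow₀ (by linarith)
  have hmono : ∀ j i : ℕ, j < i → (p : ℤ) ^ j < (p : ℤ) ^ i := fun j i hji =>
    pow_lt_pow_right₀ (by linarith) hji
  have hkm : m ≤ k := by
    by_contra hlt
    have := Int.le_of_dvd (by linarith [hpos k]) h
    linarith [hmono k m (by omega)]
  obtain ⟨j, rfl⟩ := Nat.exists_eq_add_of_le hkm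
  have h1 : (p : ℤ) ^ m + 1 ∣ (p : ℤ) ^ j - 1 := by
    have := dvd_sub (dvd_mul_left ((p : ℤ) ^ m + 1) ((p : ℤ) ^ j)) h
    rwa [show (p : ℤ) ^ j * ((p : ℤ) ^ m + 1) - ((p : ℤ) ^ (m + j) + 1) = (p : ℤ) ^ j - 1 by
      rw [pow_add]; ring] at this
  rcases Nat.eq_zero_or_pos j with hj | hj
  · exact Or.inr (Or.inl (by omega))
  have hjm : m ≤ j := by
    by_contra hlt
    have h2 : (1 : ℤ) < (p : ℤ) ^ j := one_lt_pow₀ (by linarith) (by omega)
    have := Int.le_of_dvd (by linarith) h1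
    linarith [hmono j m (by omega)]
  obtain ⟨i, rfl⟩ := Nat.exists_eq_add_of_le hjm
  have h2 : (p : ℤ) ^ m + 1 ∣ (p : ℤ) ^ i + 1 := by
    have := dvd_sub (dvd_mul_left ((p : ℤ) ^ m + 1) ((p : ℤ) ^ i)) h1
    rwa [show (p : ℤ) ^ i * ((p : ℤ) ^ m + 1) - ((p : ℤ) ^ (m + i) - 1) = (p : ℤ) ^ i + 1 by
      rw [pow_add]; ring] at this
  have : m ≤ i := by
    by_contra hlt
    have := Int.le_of_dvd (by linarith [hpos i]) h2
    linarith [hmono i m (by omega)]
  exact Or.inr (Or.inr (by omega))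

namespace Hyp

variable {G Ω : Type*} [Group G] [MulAction G Ω] {p n d : ℕ} (S : Hyp G Ω p n d)

/-- The centraliser of `h` in `U`. -/
def cU (h : G) : Subgroup G := S.U ⊓ Subgroup.centralizer {h}

theorem mem_cU {h u : G} : u ∈ S.cU h ↔ u ∈ S.U ∧ h * u = u * h := by
  simp only [cU, Subgroup.mem_inf, Subgroup.mem_centralizer_iff, Set.mem_singleton_iff, forall_eq]

theorem smul_Ub {h u : G} (hh : h ∈ S.H) : h • (u • S.b) = cj h u • S.b := by
  simp only [cj, mul_smul, S.H_fix_b (inv_mem hh)]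

theorem fix_Ub_iff {h u : G} (hh : h ∈ S.H) (hu : u ∈ S.U) :
    h • (u • S.b) = u • S.b ↔ h * u = u * h := by
  rw [S.smul_Ub hh, ← cj_eq_iff]
  exact ⟨fun e => S.U_inj (S.cj_mem_U hh hu) hu e, fun e => by rw [e]⟩

/-- The fixed points of `h`. -/
def fixSet (_S : Hyp G Ω p n d) (h : G) : Set Ω := {x | h • x = x}

theorem fixSet_eq {h : G} (hh : h ∈ S.H) :
    S.fixSet h = insert S.a ((· • S.b) '' (S.cU h : Set G)) := by
  ext x
  constructor
  · intro hx
    by_cases hxa : x = S.a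
    · exact Or.inl hxa
    obtain ⟨u, hu, rfl⟩ := S.U_reg x hxa
    exact Or.inr ⟨u, S.mem_cU.2 ⟨hu, (S.fix_Ub_iff hh hu).1 hx⟩, rfl⟩
  · rintro (rfl | ⟨u, hu, rfl⟩)
    · exact S.H_fix_a hh
    · exact (S.fix_Ub_iff hh (S.mem_cU.1 hu).1).2 (S.mem_cU.1 hu).2

include S in
theorem finite_points [Finite G] : Finite Ω := by
  classical
  refine Finite.of_surjective (fun g : Option G => g.elim S.a fun g => g • S.b) fun x => ?_
  by_cases hx : x = S.a
  · exact ⟨none, hx.symm⟩
  · obtain ⟨u, -, hu⟩ := S.U_reg x hx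
    exact ⟨some u, hu⟩

theorem ncard_fixSet [Finite G] {h : G} (hh : h ∈ S.H) :
    (S.fixSet h).ncard = Nat.card (S.cU h) + 1 := by
  haveI := S.finite_points
  rw [S.fixSet_eq hh, Set.ncard_insert_of_notMem ?_ (Set.toFinite _),
    Set.ncard_image_of_injOn fun u hu v hv e => S.U_inj (S.mem_cU.1 hu).1 (S.mem_cU.1 hv).1 e]
  · rfl
  · rintro ⟨u, hu, e⟩
    exact S.U_smul_ne (S.mem_cU.1 hu).1 e

include S in
theorem card_points [Finite G] : Nat.card Ω = p ^ (3 * n) + 1 := by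
  haveI := S.finite_points
  have h := S.ncard_fixSet S.H.one_mem
  rw [show S.fixSet 1 = Set.univ from Set.eq_univ_of_forall fun x => one_smul G x,
    Set.ncard_univ] at h
  rw [h, show S.cU 1 = S.U from le_antisymm inf_le_left fun u hu => S.mem_cU.2 ⟨hu, by simp⟩,
    S.card_U]

theorem card_stab : Nat.card (MulAction.stabilizer G S.a) = Nat.card S.H * Nat.card S.U := by
  rw [← Nat.card_prod]
  symm
  refine Nat.card_eq_of_bijective (fun p : S.H × S.U => (⟨p.1 * p.2, by
    rw [MulAction.mem_stabilizer_iff, mul_smul, S.U_fix _ p.2.2, S.H_fix_a p.1.2]⟩ :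
      MulAction.stabilizer G S.a)) ⟨?_, ?_⟩
  · intro x y e
    obtain ⟨h1, h2⟩ := S.decomp_unique x.1.2 y.1.2 x.2.2 y.2.2 (congrArg Subtype.val e)
    exact Prod.ext (Subtype.ext h1) (Subtype.ext h2)
  · rintro ⟨g, hg⟩
    obtain ⟨h, hh, u, hu, rfl⟩ := S.exists_decomp hg
    exact ⟨(⟨h, hh⟩, ⟨u, hu⟩), rfl⟩

theorem exists_swap : ∃ g : G, g • S.a = S.b ∧ g • S.b = S.a := S.two _ _ (Ne.symm S.ne)

include S in
theorem card_G [Finite G] :
    Nat.card G = (p ^ (3 * n) + 1) * (Nat.card S.H * p ^ (3 * n)) := by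
  haveI := S.finite_points
  classical
  haveI := Fintype.ofFinite G
  haveI := Fintype.ofFinite Ω
  have ho : MulAction.orbit G S.a = Set.univ := Set.eq_univ_of_forall fun x => by
    by_cases hx : x = S.a
    · rw [hx]; exact MulAction.mem_orbit_self S.a
    · obtain ⟨g, hg, -⟩ := S.two x S.a hx
      exact ⟨g, hg⟩
  have h := MulAction.card_orbit_mul_card_stabilizer_eq_card_group G S.a
  rw [← Nat.card_eq_fintype_card, ← Nat.card_eq_fintype_card, ← Nat.card_eq_fintype_card,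
    Nat.card_congr (Equiv.setCongr ho), Nat.card_univ, S.card_points, S.card_stab, S.card_U] at h
  exact h.symm

theorem conj_mem_H_of_swap {g h : G} (ga : g • S.a = S.b) (gb : g • S.b = S.a) (hh : h ∈ S.H) :
    cj g h ∈ S.H := by
  have e1 : g⁻¹ • S.a = S.b := by rw [inv_smul_eq_iff, gb]
  have e2 : g⁻¹ • S.b = S.a := by rw [inv_smul_eq_iff, ga]
  rw [S.mem_H, cj]
  simp only [mul_smul, e1, e2, S.H_fix_a hh, S.H_fix_b hh, ga, gb, and_self]

theorem mem_normalizer_of [Finite G] {g h : G} (hh : h ∈ S.H) (hg : cj g h ∈ S.H) :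
    g ∈ Subgroup.normalizer ((Subgroup.zpowers h : Subgroup G) : Set G) := by
  have e : Subgroup.zpowers (cj g h) = Subgroup.zpowers h := by
    refine zpowers_eq_of_cyclic S.cyc hg hh ?_
    exact orderOf_injective (MulAut.conj g).toMonoidHom (MulEquiv.injective _) h
  rw [Subgroup.mem_normalizer_iff]
  intro x
  have hmap : (Subgroup.zpowers h).map (MulAut.conj g).toMonoidHom = Subgroup.zpowers h := by
    rw [MonoidHom.map_zpowers]; exact e
  constructor
  · intro hx
    rw [← hmap]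
    exact Subgroup.mem_map_of_mem _ hx
  · intro hx
    rw [← hmap, Subgroup.mem_map] at hx
    obtain ⟨y, hy, hyx⟩ := hx
    have : y = x := by
      have h2 : g * y * g⁻¹ = g * x * g⁻¹ := hyx
      exact mul_left_cancel (mul_right_cancel h2)
    exact this ▸ hy

theorem normalizer_fixSet {g h : G} (hg : g ∈ Subgroup.normalizer ((Subgroup.zpowers h : Subgroup G) : Set G))
    {x : Ω} (hx : x ∈ S.fixSet h) : g • x ∈ S.fixSet h := by
  have hg' : g⁻¹ * h * g ∈ Subgroup.zpowers h := by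
    have h1 := (Subgroup.mem_normalizer_iff.1 (inv_mem hg) h).1 (Subgroup.mem_zpowers h)
    rwa [inv_inv] at h1
  obtain ⟨k, hk⟩ := Subgroup.mem_zpowers_iff.1 hg'
  have hxk : (h ^ k) • x = x := by
    have hst : h ∈ MulAction.stabilizer G x := hx
    exact zpow_mem hst k
  rw [hk, mul_smul, mul_smul, inv_smul_eq_iff] at hxk
  exact hxk

theorem card_normalizer [Finite G] {h : G} (hh : h ∈ S.H) :
    Nat.card (Subgroup.normalizer ((Subgroup.zpowers h : Subgroup G) : Set G)) =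
      (Nat.card (S.cU h) + 1) * Nat.card (S.cU h) * Nat.card S.H := by
  haveI := S.finite_points
  classical
  haveI := Fintype.ofFinite G
  haveI := Fintype.ofFinite Ω
  set N := Subgroup.normalizer ((Subgroup.zpowers h : Subgroup G) : Set G) with hN
  set P : Finset (Ω × Ω) := (S.fixSet h).toFinset.offDiag with hP
  have hfix : (S.fixSet h).toFinset.card = Nat.card (S.cU h) + 1 := by
    rw [← S.ncard_fixSet hh, Set.ncard_eq_toFinset_card']
  have hPcard : P.card = (Nat.card (S.cU h) + 1) * Nat.card (S.cU h) := by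
    rw [hP, Finset.offDiag_card, hfix, ← Nat.mul_sub_one]; simp
  have horb : MulAction.orbit N (S.a, S.b) = (P : Set (Ω × Ω)) := by
    ext ⟨x, y⟩
    simp only [hP, Finset.coe_offDiag, Set.coe_toFinset, Set.mem_offDiag]
    constructor
    · rintro ⟨g, hg⟩
      have hg1 : (g : G) • S.a = x := congrArg Prod.fst hg
      have hg2 : (g : G) • S.b = y := congrArg Prod.snd hg
      refine ⟨hg1 ▸ S.normalizer_fixSet g.2 (S.H_fix_a hh), hg2 ▸ S.normalizer_fixSet g.2 (S.H_fix_b hh),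
        fun e => S.ne (smul_left_cancel (g : G) ?_)⟩
      rw [hg1, hg2, e]
    · rintro ⟨hx, hy, hxy⟩
      obtain ⟨g, ga, gb⟩ := S.two x y hxy
      have hgh : cj g⁻¹ h ∈ S.H := by
        rw [S.mem_H, cj, inv_inv]
        simp only [mul_smul, ga, gb]
        exact ⟨by rw [show h • x = x from hx, ← ga, inv_smul_smul],
          by rw [show h • y = y from hy, ← gb, inv_smul_smul]⟩
      have := inv_mem (S.mem_normalizer_of hh hgh)
      rw [inv_inv] at this
      exact ⟨⟨g, this⟩, Prod.ext ga gb⟩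
  have hstab : Nat.card (MulAction.stabilizer N (S.a, S.b)) = Nat.card S.H := by
    refine Nat.card_congr
      { toFun := fun g => ⟨g.1.1, (S.mem_H _).2 ⟨congrArg Prod.fst g.2, congrArg Prod.snd g.2⟩⟩
        invFun := fun g => ⟨⟨g.1, S.mem_normalizer_of hh (by rw [S.cj_H g.2 hh]; exact hh)⟩,
          Prod.ext (S.H_fix_a g.2) (S.H_fix_b g.2)⟩
        left_inv := fun g => rfl
        right_inv := fun g => rfl }
  have h1 := MulAction.card_orbit_mul_card_stabilizer_eq_card_group N (S.a, S.b)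
  rw [← Nat.card_eq_fintype_card, ← Nat.card_eq_fintype_card, ← Nat.card_eq_fintype_card,
    Nat.card_congr (Equiv.setCongr horb), hstab] at h1
  rw [← h1]
  simp [hPcard]

theorem card_cU [Finite G] [FaithfulSMul G Ω] {h : G} (hh : h ∈ S.H) (h1 : h ≠ 1) :
    ∃ m, m ≤ n ∧ Nat.card (S.cU h) = p ^ m ∧ p ^ m + 1 ∣ p ^ (3 * n) + 1 := by
  obtain ⟨m, hm3, hm⟩ := (Nat.dvd_prime_pow S.prime).1
    (S.card_U ▸ Subgroup.card_dvd_of_le (inf_le_left : S.cU h ≤ S.U))
  change Nat.card (S.cU h) = p ^ m at hm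
  have hdvd : p ^ m + 1 ∣ p ^ (3 * n) + 1 := by
    have h2 := Subgroup.card_subgroup_dvd_card
      (Subgroup.normalizer ((Subgroup.zpowers h : Subgroup G) : Set G))
    rw [S.card_normalizer hh, hm, S.card_G] at h2
    have h3 : (p ^ m + 1) * p ^ m ∣ (p ^ (3 * n) + 1) * p ^ (3 * n) := by
      refine Nat.dvd_of_mul_dvd_mul_right (Nat.card_pos (α := S.H)) ?_
      rwa [mul_assoc (p ^ (3 * n) + 1), mul_comm (p ^ (3 * n))]
    refine Nat.Coprime.dvd_of_dvd_mul_right ?_ (dvd_trans (dvd_mul_right _ _) h3)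
    rcases Nat.eq_zero_or_pos m with rfl | hm0
    · rw [pow_zero]
      exact (Nat.Coprime.pow_right _ ((Nat.coprime_primes Nat.prime_two S.prime).2 (Ne.symm S.odd)))
    · refine Nat.Coprime.pow_right _ ?_
      rw [Nat.coprime_comm, S.prime.coprime_iff_not_dvd, ← Nat.dvd_add_iff_right (dvd_pow_self p hm0.ne')]
      exact fun hd => S.prime.ne_one (Nat.dvd_one.1 hd)
  refine ⟨m, ?_, hm, hdvd⟩
  have hp3 : 3 ≤ p := by have := S.prime.two_le; have := S.odd; omega
  rcases eq_or_three_mul_le hp3 (by exact_mod_cast hdvd) with h0 | h0 | h0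
  · omega
  · exfalso
    have heq : S.cU h = S.U :=
      Subgroup.eq_of_le_of_card_ge inf_le_left (by rw [hm, S.card_U, h0])
    refine h1 (FaithfulSMul.eq_of_smul_eq_smul (α := Ω) fun x => ?_)
    rw [one_smul]
    by_cases hx : x = S.a
    · rw [hx, S.H_fix_a hh]
    · obtain ⟨u, hu, rfl⟩ := S.U_reg x hx
      exact (S.fix_Ub_iff hh hu).2 (S.mem_cU.1 (heq ▸ hu)).2
  · omega

/-- An element exchanging `a` and `b` centralises every element of `H` with a nontrivial centraliser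
in `U`. -/
theorem swap_comm [Finite G] {g h : G} (ga : g • S.a = S.b) (gb : g • S.b = S.a) (hh : h ∈ S.H)
    (hC : S.cU h ≠ ⊥) : g * h = h * g := by
  set C := Subgroup.centralizer ({h} : Set G) with hCdef
  have hgN := S.mem_normalizer_of hh (S.conj_mem_H_of_swap ga gb hh)
  have hconjC : ∀ u ∈ S.cU h, cj g u ∈ C := fun u hu => by
    have hu' := S.mem_cU.1 hu
    have hgh : g⁻¹ * h * g ∈ Subgroup.zpowers h := by
      have h1 := (Subgroup.mem_normalizer_iff.1 (inv_mem hgN) h).1 (Subgroup.mem_zpowers h)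
      rwa [inv_inv] at h1
    obtain ⟨k, hk⟩ := Subgroup.mem_zpowers_iff.1 hgh
    have hc : Commute (h ^ k) u := (show Commute h u from hu'.2).zpow_left k
    rw [hk] at hc
    rw [hCdef, Subgroup.mem_centralizer_singleton_iff]
    show cj g u * h = h * cj g u
    have := congrArg (fun x => g * x * g⁻¹) hc.eq
    simpa [cj, mul_assoc] using this.symm
  have hcU : ∀ u ∈ S.cU h, u ∈ C := fun u hu => hu.2
  obtain ⟨⟨u, hu⟩, hu1'⟩ := Subgroup.ne_bot_iff_exists_ne_one.1 hC
  have hu1 : u ≠ 1 := fun e => hu1' (Subtype.ext e)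
  have ginv_a : g⁻¹ • S.a = S.b := by rw [inv_smul_eq_iff, gb]
  have ginv_b : g⁻¹ • S.b = S.a := by rw [inv_smul_eq_iff, ga]
  have mem_fix : ∀ {c : G}, c ∈ C → ∀ {x : Ω}, h • x = x → h • (c • x) = c • x := by
    intro c hc x hx
    rw [← mul_smul, show h * c = c * h from (Subgroup.mem_centralizer_singleton_iff.1 hc).symm, mul_smul, hx]
  -- a point moved off `a` and `b`
  set z := cj g u • S.a with hz
  have hzfix : h • z = z := mem_fix (hconjC u hu) (S.H_fix_a hh)
  have hza : z ≠ S.a := fun e => by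
    refine hu1 (S.U_free u (S.mem_cU.1 hu).1 ?_)
    rw [hz, cj, mul_smul, mul_smul, ginv_a, ← eq_inv_smul_iff, ginv_a] at e
    exact e
  obtain ⟨u2, hu2, hu2z⟩ : z ∈ (· • S.b) '' (S.cU h : Set G) :=
    ((S.fixSet_eq hh).le hzfix).resolve_left hza
  set c1 := u2⁻¹ * cj g u with hc1
  have hc1C : c1 ∈ C := mul_mem (inv_mem (hcU u2 hu2)) (hconjC u hu)
  have hc1a : c1 • S.a = S.b := by
    rw [hc1, mul_smul, ← hz, ← hu2z, inv_smul_smul]
  set y := c1 • S.b with hy
  have hyfix : h • y = y := mem_fix hc1C (S.H_fix_b hh)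
  have hyb : y ≠ S.b := fun e => S.ne (smul_left_cancel c1 (hc1a.trans e.symm))
  have hy2 : g⁻¹ • y ∈ S.fixSet h := S.normalizer_fixSet (inv_mem hgN) hyfix
  obtain ⟨u3, hu3, hu3y⟩ : g⁻¹ • y ∈ (· • S.b) '' (S.cU h : Set G) := by
    refine ((S.fixSet_eq hh).le hy2).resolve_left fun e => hyb ?_
    rw [inv_smul_eq_iff, ga] at e
    exact e
  set c := cj g u3⁻¹ * c1 with hc
  have hcC : c ∈ C := mul_mem (hconjC _ (inv_mem hu3)) hc1C
  have hca : c • S.a = S.b := by
    rw [hc, mul_smul, hc1a, cj, mul_smul, mul_smul, ginv_b, S.U_fix _ (inv_mem (S.mem_cU.1 hu3).1), ga]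
  have hcb : c • S.b = S.a := by
    rw [hc, mul_smul, ← hy, cj, mul_smul, mul_smul, ← hu3y, inv_smul_smul, gb]
  have hk : c⁻¹ * g ∈ S.H := by
    rw [S.mem_H, mul_smul, mul_smul, ga, gb]
    exact ⟨by rw [← hca, inv_smul_smul], by rw [← hcb, inv_smul_smul]⟩
  have e1 : h * c = c * h := (Subgroup.mem_centralizer_singleton_iff.1 hcC).symm
  calc g * h = c * ((c⁻¹ * g) * h) := by group
    _ = c * (h * (c⁻¹ * g)) := by rw [S.H_comm hk hh]
    _ = (c * h) * (c⁻¹ * g) := by group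
    _ = (h * c) * (c⁻¹ * g) := by rw [e1]
    _ = h * g := by group

end Hyp

end CfsgLib.LocalEvenB.OddUnitary
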