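import Cfsg.Agent.Lib.LocalEvenB.OddUnitary.Coords

/-!
Owner: helper20. The swap in unital coordinates: `(α, β) ↦ (c² / α, c β / α)`.
-/

set_option autoImplicit false
set_option linter.all false

universe u v

namespace CfsgLib.LocalEvenB.OddUnitary

open CfsgLib.Classical.Herm

namespace Swap

variable {G : Type u} {Ω : Type v} [Group G] [MulAction G Ω] [Finite G] [FaithfulSMul G Ω]
  {p n d : ℕ} [Fact p.Prime] {S : Hyp G Ω p n d} (W : Swap S) (C : Scalars S) (hs : W.s ∈ S.refl)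

local notation "L" => GaloisField p (2 * n)
local notation "κ" => cnj p n

include C hs

omit hs in
theorem hσ : IsInvol (cnj p n) := cnj_isInvol (by have := S.pos; omega)

omit hs in
theorem finite_L : Finite L := Nat.finite_of_card_ne_zero (by
  rw [C.card_field]; exact (pow_pos (pow_pos S.prime.pos _) 2).ne')

theorem norm_pr_field {l : G} (hl : l ∈ S.H) :
    κ (C.ξ (W.pr l)) * C.ξ (W.pr l) * (κ (C.ξ l) * C.ξ l) = 1 := by
  have hp := W.pr_mem hl
  have h := congrArg C.ξ (W.norm_pr C hs hl)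
  rw [C.ξ_mul _ (pow_mem hp _) _ (pow_mem hl _), C.ξ_pow hp, C.ξ_pow hl, C.ξ_one, pow_succ, pow_succ] at h
  rw [cnj_apply, cnj_apply]
  exact h

omit hs in
theorem mk'_zero_right (z : L) : W.mk' C (z, 0) = W.iota C z := by
  simp only [mk']
  rw [C.nu_zero, map_zero, zero_mul, zero_div, add_zero, mul_one]

theorem iota_ne {z : L} (hz : κ z = -z) (h : z ≠ 0) : W.iota C z ≠ 1 := fun e => h (by
  refine W.iota_inj C hs hz (by rw [map_zero, neg_zero]) (e.trans ?_)
  have h0 := W.iota_add C (0 : L) 0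
  rw [add_zero] at h0
  exact (mul_eq_left.1 h0.symm).symm)

omit hs in
theorem iota_neg (z : L) : W.iota C (-z) = (W.iota C z)⁻¹ := by
  refine eq_inv_of_mul_eq_one_left ?_
  rw [← W.iota_add, neg_add_cancel]
  have h0 := W.iota_add C (0 : L) 0
  rw [add_zero] at h0
  exact mul_eq_left.1 h0.symm

/-- The swap on `Z₀` is `z ↦ ε / z`. -/
theorem exists_eps : ∃ ε : L, ε ≠ 0 ∧ κ ε = ε ∧
    ∀ z : L, κ z = -z → z ≠ 0 → W.F (W.iota C z) = W.iota C (ε / z) := by
  have hσ := hσ C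
  haveI := finite_L C
  obtain ⟨z0, hz0, hz0'⟩ := hσ.exists_skew
  have h1 := W.iota_ne C hs hz0' hz0
  have hZ := W.F_Z0 C (W.iota_mem C z0) h1
  obtain ⟨w0, hw0', hw0⟩ := W.exists_iota C hs hZ
  have hw0ne : w0 ≠ 0 := fun e => W.F_ne (S.mem_Z0.1 (W.iota_mem C z0)).1 h1 (by
    rw [← hw0, e]
    have h0 := W.iota_add C (0 : L) 0
    rw [add_zero] at h0
    exact mul_eq_left.1 h0.symm)
  refine ⟨z0 * w0, mul_ne_zero hz0 hw0ne, by rw [map_mul, hz0', hw0']; ring, fun z hz hne => ?_⟩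
  obtain ⟨g, hg, e⟩ := W.exists_norm_field C hs (r := z / z0) (div_ne_zero hne hz0)
    (by rw [map_div₀, hz, hz0']; ring)
  have hp := W.norm_pr_field C hs hg
  rw [e] at hp
  have e2 : z = z / z0 * z0 := (div_mul_cancel₀ z hz0).symm
  conv_lhs => rw [e2, ← e, ← W.cj_iota C hg]
  rw [(W.conj_rule (S.mem_Z0.1 (W.iota_mem C z0)).1 h1 hg).1, ← hw0, W.cj_iota C (W.pr_mem hg)]
  congr 1
  have e3 : κ (C.ξ (W.pr g)) * C.ξ (W.pr g) = z0 / z := by
    rw [eq_div_iff hne]
    field_simp at hp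
    linear_combination hp
  rw [e3]
  field_simp

/-- An involution of the coset of the swap has no fixed points on the fixed line of `t`. -/
theorem no_fixed {ε : L} (hF : ∀ z : L, κ z = -z → z ≠ 0 → W.F (W.iota C z) = W.iota C (ε / z))
    {l : G} (hl : l ∈ S.H) (hinv : W.pr l * l = 1) {z : L} (hz : κ z = -z) (hne : z ≠ 0) :
    κ (C.ξ l) * C.ξ l * (z * z) ≠ ε := by
  intro he
  have hσ := hσ C
  set j := W.s * l with hj
  have hj2 : j * j = 1 := by
    rw [hj, ← mul_assoc]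
    exact hinv
  have hja : j • S.a = S.b := by rw [hj, mul_smul, S.H_fix_a hl, W.s_a]
  have hjt : j * S.t = S.t * j := by
    rw [hj, mul_assoc, S.H_comm hl S.t_mem, ← mul_assoc, W.s_t, mul_assoc]
  set N := κ (C.ξ l) * C.ξ l with hN
  have hN0 : N ≠ 0 := mul_ne_zero ((map_ne_zero _).2 (C.ξ_ne hl)) (C.ξ_ne hl)
  have hNs : κ (N * z) = -(N * z) := by rw [hN, map_mul, map_mul, hσ.invol, hz]; ring
  set x := W.iota C z • S.b with hx
  have hjx : j • x = x := by
    have h1 := W.iota_ne C hs hNs (mul_ne_zero hN0 hne)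
    rw [hx, hj, mul_smul, S.smul_Ub hl, W.cj_iota C hl,
      ← (W.F_spec (S.mem_Z0.1 (W.iota_mem C _)).1 h1).2, hF _ hNs (mul_ne_zero hN0 hne)]
    congr 2
    rw [← he]
    field_simp
  have htx : S.t • x = x := by
    rw [hx, S.fix_Ub_iff S.t_mem (S.mem_Z0.1 (W.iota_mem C z)).1]
    exact cj_eq_iff.1 (S.mem_Z0.1 (W.iota_mem C z)).2
  have hne1 : j ≠ 1 := fun e => S.ne (by rw [← hja, e, one_smul])
  have hxa : x ≠ S.a := S.U_smul_ne (S.mem_Z0.1 (W.iota_mem C z)).1
  obtain ⟨g, ga, -⟩ := S.two x S.a hxa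
  have h0 : cj g⁻¹ j ≠ 1 := by rwa [Ne, cj_eq_one]
  obtain ⟨u, hu, hju, -⟩ := S.exists_conj_of_fix (j := cj g⁻¹ j) (by rw [← cj_mul, hj2, cj_one]) h0
    (by rw [cj, inv_inv, mul_smul, mul_smul, ga, hjx, inv_smul_eq_iff, ga])
  have hrefl : j ∈ S.refl := by
    refine ⟨g * u, ?_⟩
    show cj (g * u) S.t = j
    rw [← cj_cj, ← hju, cj_cj, mul_inv_cancel, cj_one_left]
  have := S.eq_t_of_fix hrefl hjt htx hjx
  exact S.ne (by rw [← hja, this, S.H_fix_a S.t_mem])

omit hs in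
theorem real_square_mul {x y : L} (hx : κ x = x) (hy : κ y = y) (hx0 : x ≠ 0) (hy0 : y ≠ 0)
    (hxn : ¬ ∃ r, κ r = r ∧ r * r = x) (hyn : ¬ ∃ r, κ r = r ∧ r * r = y) :
    ∃ r, κ r = r ∧ r * r = x * y := by
  classical
  haveI := finite_L C
  haveI := Fintype.ofFinite (fixedSub (cnj p n))
  set F0 := fixedSub (cnj p n)
  have hchar : ringChar F0 ≠ 2 := by
    haveI : CharP L p := inferInstance
    haveI : CharP F0 p := inferInstance
    rw [ringChar.eq F0 p]
    exact S.odd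
  have key : ∀ w : F0, w ≠ 0 → (¬ ∃ r, κ r = r ∧ r * r = (w : L)) → w ^ (Fintype.card F0 / 2) = -1 := by
    intro w hw hns
    refine (FiniteField.pow_dichotomy hchar hw).resolve_left fun h1 => hns ?_
    obtain ⟨r, hr⟩ := (FiniteField.isSquare_iff hchar hw).2 h1
    exact ⟨r, r.2, congrArg Subtype.val hr.symm⟩
  let X : F0 := ⟨x, hx⟩
  let Y : F0 := ⟨y, hy⟩
  have hX0 : X ≠ 0 := fun h => hx0 (congrArg Subtype.val h)
  have hY0 : Y ≠ 0 := fun h => hy0 (congrArg Subtype.val h)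
  obtain ⟨r, hr⟩ := (FiniteField.isSquare_iff hchar (mul_ne_zero hX0 hY0)).2
    (by rw [mul_pow, key X hX0 hxn, key Y hY0 hyn]; ring)
  exact ⟨r, r.2, congrArg Subtype.val hr.symm⟩

/-- The swap acts on `H` as `ξ ↦ 1 / ξ̄`. -/
theorem pr_eq {l : G} (hl : l ∈ S.H) : C.ξ (W.pr l) * κ (C.ξ l) = 1 := by
  have hσ := hσ C
  haveI := finite_L C
  have h2 : (2 : L) ≠ 0 := two_ne_galois S.odd
  have hq := S.q_ge
  let χ : G → L := fun g => C.ξ (W.pr g) * κ (C.ξ g)
  have hχ : ∀ g ∈ S.H, χ g = 1 ∨ χ g = -1 := by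
    intro g hg
    have hp := W.pr_mem hg
    have h1 := congrArg C.ξ (W.pr_mul_inv_pow C hs hg)
    rw [C.ξ_pow (mul_mem hp (inv_mem hg)), C.ξ_mul _ hp _ (inv_mem hg), C.ξ_inv hg, C.ξ_one] at h1
    set ρ := C.ξ (W.pr g) * (C.ξ g)⁻¹ with hρ
    have hρr : κ ρ = ρ := by
      rw [cnj_apply, show p ^ n = p ^ n - 1 + 1 by omega, pow_succ, h1, one_mul]
    have hξ := C.ξ_ne hg
    have e : C.ξ (W.pr g) = ρ * C.ξ g := by rw [hρ, mul_assoc, inv_mul_cancel₀ hξ, mul_one]
    have hN := W.norm_pr_field C hs hg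
    rw [e, map_mul, hρr] at hN
    refine mul_self_eq_one_iff.1 ?_
    show C.ξ (W.pr g) * κ (C.ξ g) * (C.ξ (W.pr g) * κ (C.ξ g)) = 1
    rw [e]
    linear_combination hN
  have hmul : ∀ g ∈ S.H, ∀ g' ∈ S.H, χ (g * g') = χ g * χ g' := fun g hg g' hg' => by
    show C.ξ (W.pr (g * g')) * κ (C.ξ (g * g')) = _
    rw [W.pr_mul, C.ξ_mul _ (W.pr_mem hg) _ (W.pr_mem hg'), C.ξ_mul _ hg _ hg', map_mul]
    ring
  have hsq : ∀ g ∈ S.H, (∃ r, κ r = r ∧ r * r = κ (C.ξ g) * C.ξ g) → χ g = 1 := by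
    rintro g hg ⟨r, hr, hrr⟩
    have hr0 : r ≠ 0 := fun e => by
      rw [e, zero_mul] at hrr
      exact mul_ne_zero ((map_ne_zero _).2 (C.ξ_ne hg)) (C.ξ_ne hg) hrr.symm
    obtain ⟨a, ha, hae, hap⟩ := W.exists_root C hs (l := r) (mul_left_cancel₀ hr0 (by
      rw [mul_one, ← pow_succ', show p ^ n - 1 + 1 = p ^ n by omega, ← cnj_apply, hr]))
    have hpa := W.pr_real C hs ha hap
    set c := g * a⁻¹ with hc
    have hcH : c ∈ S.H := mul_mem hg (inv_mem ha)
    have hcN : κ (C.ξ c) * C.ξ c = 1 := by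
      rw [hc, C.ξ_mul _ hg _ (inv_mem ha), C.ξ_inv ha, hae, map_mul, map_inv₀, hr]
      field_simp
      linear_combination -hrr
    have hcpow : c ^ (p ^ n + 1) = 1 := C.faithful (pow_mem hcH _) (by
      rw [C.ξ_pow hcH, pow_succ, ← cnj_apply, hcN])
    have hpc := (W.pr_fixed_iff C hs hcH).2 hcpow
    have hg' : g = c * a := by rw [hc, inv_mul_cancel_right]
    rw [hg', hmul c hcH a ha]
    show C.ξ (W.pr c) * κ (C.ξ c) * (C.ξ (W.pr a) * κ (C.ξ a)) = 1
    rw [hpc, hpa, C.ξ_inv ha, hae, hr, inv_mul_cancel₀ hr0, mul_one, mul_comm (C.ξ c), hcN]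
  rcases hχ l hl with h | h
  · exact h
  exfalso
  have hne : (1 : L) ≠ -1 := fun e => h2 (by linear_combination e)
  have hNr : ∀ g, κ (κ (C.ξ g) * C.ξ g) = κ (C.ξ g) * C.ξ g := fun g => by
    rw [map_mul, hσ.invol]; ring
  have hN0 : ∀ g ∈ S.H, κ (C.ξ g) * C.ξ g ≠ 0 := fun g hg =>
    mul_ne_zero ((map_ne_zero _).2 (C.ξ_ne hg)) (C.ξ_ne hg)
  have hlns : ¬ ∃ r, κ r = r ∧ r * r = κ (C.ξ l) * C.ξ l := fun hh => hne ((hsq l hl hh).symm.trans h)
  have hall : ∀ g ∈ S.H, (¬ ∃ r, κ r = r ∧ r * r = κ (C.ξ g) * C.ξ g) → χ g = -1 := by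
    intro g hg hns
    obtain ⟨r, hr, hrr⟩ := real_square_mul C (hNr l) (hNr g) (hN0 l hl) (hN0 g hg) hlns hns
    have h1 := hsq (l * g) (mul_mem hl hg) ⟨r, hr, by rw [hrr, C.ξ_mul _ hl _ hg, map_mul]; ring⟩
    rw [hmul l hl g hg, show χ l = -1 from h] at h1
    linear_combination -h1
  by_cases hm1 : ∃ i : L, κ i = i ∧ i * i = -1
  · obtain ⟨i, hi, hii⟩ := hm1
    obtain ⟨z0, hz0, hz0'⟩ := hσ.exists_skew
    have hK : Even (Nat.card W.rho.ker) := by
      have h1 : Even (d * Nat.card W.rho.ker) := by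
        rw [(W.card_rho C hs).2]; exact S.q_odd.add_one
      rcases Nat.even_mul.1 h1 with h3 | h3
      · rcases S.d_cases with hd | hd <;> rw [hd] at h3 <;> exact absurd h3 (by decide)
      · exact h3
    obtain ⟨μ, hμ, hμe⟩ := C.exists_ξ (l := z0) (by
      rw [W.card_H_eq C hs, pow_mul]
      have h1 : z0 ^ (p ^ n - 1) = -1 := mul_left_cancel₀ hz0 (by
        rw [← pow_succ', show p ^ n - 1 + 1 = p ^ n by omega, ← cnj_apply, hz0']; ring)
      rw [h1]; exact hK.neg_one_pow)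
    have hμns : ¬ ∃ r, κ r = r ∧ r * r = κ (C.ξ μ) * C.ξ μ := by
      rintro ⟨r, hr, hrr⟩
      rw [hμe, hz0'] at hrr
      have h1 : (z0 - i * r) * (z0 + i * r) = 0 := by linear_combination hrr - r * r * hii
      have h3 : κ z0 = z0 := by
        rcases mul_eq_zero.1 h1 with e | e
        · rw [sub_eq_zero.1 e, map_mul, hi, hr]
        · rw [eq_neg_of_add_eq_zero_left e, map_neg, map_mul, hi, hr]
      rw [hz0'] at h3
      exact hz0 ((mul_eq_zero.1 (show (2 : L) * z0 = 0 by linear_combination -h3)).resolve_left h2)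
    have hχμ : C.ξ (W.pr μ) * κ (C.ξ μ) = -1 := hall μ hμ hμns
    rw [hμe, hz0'] at hχμ
    have hinv : W.pr μ * μ = 1 := C.faithful (mul_mem (W.pr_mem hμ) hμ) (by
      rw [C.ξ_mul _ (W.pr_mem hμ) _ hμ, hμe]; linear_combination -hχμ)
    obtain ⟨ε, hε0, hεr, hF⟩ := W.exists_eps C hs
    obtain ⟨c0, hc0, hcc⟩ : ∃ r, κ r = r ∧ r * r = ε := by
      by_contra hns
      obtain ⟨r, hr, hrr⟩ := real_square_mul C hεr (x := ε) (y := z0 * z0)
        (by rw [map_mul, hz0']; ring) hε0 (mul_ne_zero hz0 hz0) hns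
        (by
          rintro ⟨r, hr, hrr⟩
          have : κ z0 = z0 := by
            rcases mul_self_eq_mul_self_iff.1 hrr.symm with e | e
            · rw [e, hr]
            · rw [e, map_neg, hr]
          rw [hz0'] at this
          exact hz0 ((mul_eq_zero.1 (show (2 : L) * z0 = 0 by linear_combination -this)).resolve_left h2))
      have hr0 : r ≠ 0 := fun e => by
        rw [e, zero_mul] at hrr
        exact mul_ne_zero hε0 (mul_ne_zero hz0 hz0) hrr.symm
      refine W.no_fixed C hs hF S.H.one_mem (by rw [W.pr_one, mul_one]) (z := r / z0)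
        (by rw [map_div₀, hr, hz0', div_neg]) (div_ne_zero hr0 hz0) ?_
      rw [C.ξ_one, map_one, one_mul, one_mul]
      field_simp
      linear_combination hrr
    have hi0 : i ≠ 0 := fun e => by
      rw [e, zero_mul] at hii
      exact one_ne_zero (neg_eq_zero.1 hii.symm)
    have hc00 : c0 ≠ 0 := fun e => hε0 (by rw [← hcc, e, zero_mul])
    refine W.no_fixed C hs hF hμ hinv (z := c0 / (i * z0))
      (by rw [map_div₀, map_mul, hc0, hi, hz0', mul_neg, div_neg])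
      (div_ne_zero hc00 (mul_ne_zero hi0 hz0)) ?_
    rw [hμe, hz0']
    field_simp
    linear_combination ε * (-hii) - hcc
  · obtain ⟨μ, hμ, hμN⟩ := W.exists_norm_field C hs (r := -1) (neg_ne_zero.2 one_ne_zero) (by rw [map_neg, map_one])
    have hns : ¬ ∃ r, κ r = r ∧ r * r = κ (C.ξ μ) * C.ξ μ := by rw [hμN]; exact hm1
    have hχμ : C.ξ (W.pr μ) * κ (C.ξ μ) = -1 := hall μ hμ hns
    have hfix : W.pr μ = μ := C.ξ_inj (W.pr_mem hμ) hμ
      (mul_right_cancel₀ ((map_ne_zero _).2 (C.ξ_ne hμ)) (by linear_combination hχμ - hμN))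
    have h1 := congrArg C.ξ ((W.pr_fixed_iff C hs hμ).1 hfix)
    rw [C.ξ_pow hμ, pow_succ, ← cnj_apply, hμN, C.ξ_one] at h1
    exact hne h1.symm

/-- The constant of the swap, and the swap on `Z₀`. -/
theorem exists_const : ∃ c : L, c ≠ 0 ∧ κ c = c ∧
    ∀ z : L, κ z = -z → z ≠ 0 → W.F (W.iota C z) = W.iota C (c * c / z) ∧
      W.R (W.iota C z) = W.iota C (c * c / z) ∧ C.ξ (W.pr (W.K (W.iota C z))) = c / z := by
  have hσ := hσ C
  haveI := finite_L C
  have h2 : (2 : L) ≠ 0 := two_ne_galois S.odd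
  obtain ⟨ε, hε0, hεr, hF⟩ := W.exists_eps C hs
  obtain ⟨z0, hz0, hz0'⟩ := hσ.exists_skew
  have hU : ∀ z : L, W.iota C z ∈ S.U := fun z => (S.mem_Z0.1 (W.iota_mem C z)).1
  set k0 := C.ξ (W.K (W.iota C z0)) / z0 with hk0
  have hk0ne : k0 ≠ 0 :=
    div_ne_zero (C.ξ_ne (W.K_mem (hU z0) (W.iota_ne C hs hz0' hz0))) hz0
  have hK : ∀ z : L, κ z = -z → z ≠ 0 → C.ξ (W.K (W.iota C z)) = k0 * z := by
    intro z hz hne
    obtain ⟨g, hg, e⟩ := W.exists_norm_field C hs (r := z / z0) (div_ne_zero hne hz0)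
      (by rw [map_div₀, hz, hz0']; ring)
    have hKm := W.K_mem (hU z0) (W.iota_ne C hs hz0' hz0)
    have h1 := (W.conj_rule (hU z0) (W.iota_ne C hs hz0' hz0) hg).2.1
    rw [W.cj_iota C hg, e, div_mul_cancel₀ z hz0] at h1
    rw [h1, C.ξ_mul _ (mul_mem hg hKm) _ (inv_mem (W.pr_mem hg)), C.ξ_mul _ hg _ hKm,
      C.ξ_inv (W.pr_mem hg)]
    have h3 := W.pr_eq C hs hg
    rw [eq_inv_of_mul_eq_one_left h3, inv_inv, hk0]
    field_simp at e ⊢
    linear_combination C.ξ (W.K (W.iota C z0)) * e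
  have hk0r : κ k0 = k0 := by
    have h1 := (W.inv_rule (hU z0) (W.iota_ne C hs hz0' hz0)).2.1
    have hKm := W.K_mem (hU z0) (W.iota_ne C hs hz0' hz0)
    rw [← W.iota_neg] at h1
    have h3 := congrArg C.ξ h1
    rw [hK _ (by rw [map_neg, hz0']) (neg_ne_zero.2 hz0), C.ξ_inv (W.pr_mem hKm),
      eq_inv_of_mul_eq_one_left (W.pr_eq C hs hKm), inv_inv, hK z0 hz0' hz0, map_mul, hz0'] at h3
    exact mul_right_cancel₀ (neg_ne_zero.2 hz0) h3.symm
  have hprod : k0 * k0 * ε = 1 := by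
    have h1 := (W.F_rule (hU z0) (W.iota_ne C hs hz0' hz0)).2.1
    rw [hF z0 hz0' hz0] at h1
    have hKm := W.K_mem (hU z0) (W.iota_ne C hs hz0' hz0)
    have h3 := congrArg C.ξ h1
    rw [hK _ (by rw [map_div₀, hεr, hz0', div_neg]) (div_ne_zero hε0 hz0), C.ξ_inv hKm,
      hK z0 hz0' hz0] at h3
    field_simp at h3
    linear_combination h3
  refine ⟨-k0⁻¹, neg_ne_zero.2 (inv_ne_zero hk0ne), by rw [map_neg, map_inv₀, hk0r], fun z hz hne => ?_⟩
  have hcc : -k0⁻¹ * -k0⁻¹ = ε := by field_simp; linear_combination -hprod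
  rw [hcc]
  refine ⟨hF z hz hne, ?_, ?_⟩
  · have h1 := (W.inv_rule (hU z) (W.iota_ne C hs hz hne)).1
    rw [← W.iota_neg, hF _ (by rw [map_neg, hz]) (neg_ne_zero.2 hne), div_neg, W.iota_neg] at h1
    exact (inv_injective h1).symm
  · have hKm := W.K_mem (hU z) (W.iota_ne C hs hz hne)
    rw [eq_inv_of_mul_eq_one_left (W.pr_eq C hs hKm), hK z hz hne, map_mul, hk0r, hz]
    field_simp

omit hs in
theorem mul_onU {x y : L × L} (hx : OnU x) (hy : OnU y) :
    OnU (x.1 + y.1 - κ x.2 * y.2, x.2 + y.2) := by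
  have hx' : x.1 + κ x.1 + κ x.2 * x.2 = 0 := hx
  have hy' : y.1 + κ y.1 + κ y.2 * y.2 = 0 := hy
  unfold OnU
  rw [map_sub, map_add, map_mul, map_add, (hσ C).invol]
  linear_combination hx' + hy'

omit hs in
theorem scale_onU {x : L × L} (hx : OnU x) (l : L) : OnU (κ l * l * x.1, l * x.2) := by
  have hx' : x.1 + κ x.1 + κ x.2 * x.2 = 0 := hx
  unfold OnU
  rw [map_mul, map_mul, map_mul, (hσ C).invol]
  linear_combination (κ l * l) * hx'

/-- **The swap in coordinates.** -/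
theorem exists_formula : ∃ c : L, c ≠ 0 ∧ κ c = c ∧ ∀ x : L × L, OnU x → x ≠ 0 →
    x.1 ≠ 0 ∧ W.F (W.mk' C x) = W.mk' C (c * c / x.1, c * x.2 / x.1) := by
  have hσ := hσ C
  haveI := finite_L C
  have h2 : (2 : L) ≠ 0 := two_ne_galois S.odd
  obtain ⟨c, hc0, hcr, hZ⟩ := W.exists_const C hs
  set u : L → L := fun m => C.ξ (W.K (C.nu m)) with hu
  have hν1 : ∀ m : L, m ≠ 0 → C.nu m ≠ 1 := fun m hm e => hm (by rw [← C.β_nu m, e, C.β_one])
  have hur : ∀ m : L, m ≠ 0 → κ (u m) = u m ∧ u m ≠ 0 := by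
    intro m hm
    have hKm := W.K_mem (C.nu_inv m).1 (hν1 m hm)
    refine ⟨?_, C.ξ_ne hKm⟩
    have h := W.pr_eq C hs hKm
    rw [(W.inverted C hs (C.nu_inv m) (hν1 m hm)).1, C.ξ_inv hKm,
      inv_mul_eq_one₀ (C.ξ_ne hKm)] at h
    exact h.symm
  have hmkν : ∀ m : L, W.mk' C (-(κ m * m) / 2, m) = C.nu m := fun m => by
    simp only [mk']
    rw [show -(κ m * m) / 2 + κ m * m / 2 = 0 by ring, show W.iota C (0 : L) = 1 by
      have h0 := W.iota_add C (0 : L) 0
      rw [add_zero] at h0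
      exact mul_eq_left.1 h0.symm, one_mul]
  have honν : ∀ m : L, OnU (-(κ m * m) / 2, m) := fun m => by
    unfold OnU
    rw [map_div₀, map_neg, map_mul, hσ.invol, map_ofNat]
    field_simp; ring
  have main : ∀ m z' : L, m ≠ 0 → κ z' = -z' → z' ≠ 0 → ∀ y : L × L, OnU y →
      W.mk' C y = W.F (W.mk' C (z' - κ m * m / 2, m)) →
      m + u m * y.2 = z' / c * y.2 ∧
      -(κ m * m) / 2 + u m * u m * y.1 - κ m * (u m * y.2) = z' + -(z' * z') / (c * c) * y.1 := by
    intro m z' hm hz' hz'0 y hy hFy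
    obtain ⟨hum, hu0⟩ := hur m hm
    have hmI := C.nu_inv m
    have hm1 := hν1 m hm
    have hmU := hmI.1
    set v := W.F (C.nu m) with hv
    have hvI : S.IsInv v := W.F_isInv C hs hmI hm1
    have hv1 : v ≠ 1 := W.F_ne hmU hm1
    have hFv : W.F v = C.nu m := (W.F_rule hmU hm1).1
    have hKv : W.pr (W.K v) = W.K (C.nu m) := by
      rw [hv, (W.F_rule hmU hm1).2.1, W.pr_inv, (W.inverted C hs hmI hm1).1, inv_inv]
    have hRv : W.R v = C.nu m := ((W.inverted C hs hvI hv1).2.2).trans hFv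
    set z := c * c / z' with hz
    have hzs : κ z = -z := by rw [hz, map_div₀, map_mul, hcr, hz', div_neg]
    have hz0 : z ≠ 0 := div_ne_zero (mul_ne_zero hc0 hc0) hz'0
    obtain ⟨hFz, hRz, hkz⟩ := hZ z hzs hz0
    have hzz : c * c / z = z' := by rw [hz]; field_simp
    rw [hzz] at hFz hRz
    have hk : C.ξ (W.pr (W.K (W.iota C z))) = z' / c := by rw [hkz, hz]; field_simp
    have hzU := (S.mem_Z0.1 (W.iota_mem C z)).1
    have hz1 := W.iota_ne C hs hzs hz0
    have hw : W.mk' C (z' - κ m * m / 2, m) = W.iota C z' * C.nu m := by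
      simp only [mk']; rw [sub_add_cancel]
    have hw' : C.nu m * W.iota C z' = W.iota C z' * C.nu m := (C.Z0_nu (W.iota_mem C z') m).eq.symm
    have hw1 : W.iota C z' * C.nu m ≠ 1 := fun e => hm (by
      have h := W.β_mk' C (z' - κ m * m / 2, m)
      rw [hw, e, C.β_one] at h
      exact h.symm)
    have e1 := W.mul_rule hvI.1 hv1 hzU hz1 (by rw [hRv, hFz, hw']; exact hw1)
    have e2 := W.mul_rule hzU hz1 hvI.1 hv1 (by rw [hRz, hFv]; exact hw1)
    rw [hRv, hFz, hw', hFv, ← hw, ← hFy, hKv] at e1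
    rw [hRz, hFv, hFz, ← hw, ← hFy,
      show W.iota C z * v = v * W.iota C z from S.Z0_comm_inv (W.iota_mem C z) hvI] at e2
    have hKm := W.K_mem hmU hm1
    have hKz := W.pr_mem (W.K_mem hzU hz1)
    rw [W.cj_mk' C hKm, ← hmkν m, W.mk'_mul] at e1
    rw [← W.mk'_zero_right C z', W.cj_mk' C hKz, W.mk'_mul] at e2
    have hzon : OnU ((z' : L), (0 : L)) := by
      unfold OnU; rw [hz', map_zero, zero_mul]; ring
    rw [hmkν m] at e1
    have e := W.mk'_inj C hs (mul_onU C (honν m) (scale_onU C hy _)) (mul_onU C hzon (scale_onU C hy _))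
      (e1.symm.trans e2)
    simp only [Prod.mk.injEq, map_zero, zero_mul, sub_zero, zero_add, hk] at e
    obtain ⟨e3, e4⟩ := e
    rw [show C.ξ (W.K (C.nu m)) = u m from rfl] at e3 e4
    refine ⟨e4, ?_⟩
    rw [hum, map_div₀, hz', hcr] at e3
    linear_combination e3
  -- the class of the image
  have betaF : ∀ x : L × L, OnU x → x.2 ≠ 0 → ∀ y : L × L, OnU y → W.mk' C y = W.F (W.mk' C x) →
      y.2 * (x.1 + κ x.2 * x.2 / 2 - c * u x.2) = c * x.2 := by
    intro x hx hx2 y hy hFy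
    by_cases hz : x.1 + κ x.2 * x.2 / 2 = 0
    · have hxe : W.mk' C x = C.nu x.2 := by
        simp only [mk']
        rw [hz, show W.iota C (0 : L) = 1 by
          have h0 := W.iota_add C (0 : L) 0
          rw [add_zero] at h0
          exact mul_eq_left.1 h0.symm, one_mul]
      rw [hxe, (W.inverted C hs (C.nu_inv x.2) (hν1 _ hx2)).2.1] at hFy
      have hb := congrArg C.β hFy
      have hKm := W.K_mem (C.nu_inv x.2).1 (hν1 _ hx2)
      rw [W.β_mk', C.β_cj _ (inv_mem hKm) _ (inv_mem (C.nu_inv x.2).1), C.ξ_inv hKm,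
        C.β_inv (C.nu_inv x.2).1, C.β_nu] at hb
      obtain ⟨-, hu0⟩ := hur x.2 hx2
      rw [hz, hb]
      show (u x.2)⁻¹ * -x.2 * (0 - c * u x.2) = c * x.2
      field_simp; ring
    · have h := main x.2 _ hx2 (skew_of_onU C hx) hz y hy (by
        rw [hFy, add_sub_cancel_right])
      have h1 := h.1
      field_simp at h1 ⊢
      linear_combination (-1 : L) * h1
  have hmkne : ∀ x : L × L, OnU x → x ≠ 0 → W.mk' C x ≠ 1 := fun x hx hx0 e => by
    refine hx0 (W.mk'_inj C hs hx (by unfold OnU; simp) ?_)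
    rw [e, show ((0 : L × L)) = ((0 : L), (0 : L)) from rfl, W.mk'_zero_right]
    have h0 := W.iota_add C (0 : L) 0
    rw [add_zero] at h0
    exact (mul_eq_left.1 h0.symm).symm
  refine ⟨c, hc0, hcr, fun x hx hx0 => ?_⟩
  have hx' : x.1 + κ x.1 + κ x.2 * x.2 = 0 := hx
  by_cases hx2 : x.2 = 0
  · have hx1 : x.1 ≠ 0 := fun e => hx0 (Prod.ext e hx2)
    refine ⟨hx1, ?_⟩
    have hsk : κ x.1 = -x.1 := by
      rw [hx2, mul_zero, add_zero] at hx'
      exact eq_neg_of_add_eq_zero_right hx'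
    rw [show x = (x.1, (0 : L)) from Prod.ext rfl hx2]
    show W.F (W.mk' C (x.1, 0)) = W.mk' C (c * c / x.1, c * 0 / x.1)
    rw [mul_zero, zero_div, W.mk'_zero_right, W.mk'_zero_right, (hZ x.1 hsk hx1).1]
  have hN0 : κ x.2 * x.2 ≠ 0 := mul_ne_zero ((map_ne_zero _).2 hx2) hx2
  have hx1 : x.1 ≠ 0 := fun e => hN0 (by rw [e, map_zero, zero_add, zero_add] at hx'; exact hx')
  refine ⟨hx1, ?_⟩
  -- `c u = N / 2`
  have hP : ∀ m : L, m ≠ 0 → c * u m = κ m * m / 2 := by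
    intro m hm
    obtain ⟨z', hz'0, hz'⟩ := hσ.exists_skew
    obtain ⟨hum, hu0⟩ := hur m hm
    have hon : OnU (z' - κ m * m / 2, m) := by
      unfold OnU
      rw [map_sub, map_div₀, map_mul, hσ.invol, hz', map_ofNat]
      field_simp; ring
    have hne : ((z' - κ m * m / 2, m) : L × L) ≠ 0 := fun e => hm (congrArg Prod.snd e)
    have hmU := W.mk'_mem C (z' - κ m * m / 2, m)
    have hm1 := hmkne _ hon hne
    obtain ⟨y, hy, hFy⟩ := W.exists_mk' C hs (W.F_mem hmU hm1)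
    have hb := betaF _ hon hm y hy hFy
    obtain ⟨-, hα⟩ := main m z' hm hz' hz'0 y hy hFy
    simp only [sub_add_cancel] at hb
    have hy2 : y.2 ≠ 0 := fun e => by rw [e, zero_mul] at hb; exact mul_ne_zero hc0 hm hb.symm
    have hb' := betaF y hy hy2 (z' - κ m * m / 2, m) hon (by
      rw [hFy, (W.F_rule hmU hm1).1])
    obtain ⟨huy, -⟩ := hur y.2 hy2
    have hy' : y.1 + κ y.1 + κ y.2 * y.2 = 0 := hy
    set P := c * u m with hPdef
    set P' := c * u y.2 with hP'def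
    set N := κ m * m with hN
    set N' := κ y.2 * y.2 with hN'
    have hPr : κ P = P := by rw [hPdef, map_mul, hcr, hum]
    have hP'r : κ P' = P' := by rw [hP'def, map_mul, hcr, huy]
    have hcon : κ y.2 * (-z' - P) = c * κ m := by
      have := congrArg κ hb
      rw [map_mul, map_sub, hz', hPr, map_mul, hcr] at this
      exact this
    have hA : N' * ((z' - P) * (-z' - P)) = c * c * N := by
      rw [hN', hN]; linear_combination κ y.2 * (-z' - P) * hb + c * m * hcon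
    have hB : (y.1 + N' / 2 - P') * (z' - P) = c * c := by
      refine mul_left_cancel₀ hy2 ?_
      linear_combination (y.1 + N' / 2 - P') * hb + c * hb'
    have hBc : (-(y.1 + N' / 2) - P') * (-z' - P) = c * c := by
      have := congrArg κ hB
      rw [map_mul, map_sub, map_add, map_div₀, hN', map_mul, hσ.invol, map_ofNat, map_sub, hz', hP'r, hPr, map_mul,
        hcr] at this
      refine Eq.trans ?_ this
      rw [hN']
      field_simp
      linear_combination (2 * (z' + P)) * hy'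
    have hNδ : (z' - P) * (-z' - P) ≠ 0 := fun e => by
      rw [e, mul_zero] at hA
      exact mul_ne_zero (mul_ne_zero hc0 hc0) (mul_ne_zero ((map_ne_zero _).2 hm) hm) hA.symm
    have hC1 : (y.1 + N' / 2) * ((z' - P) * (-z' - P)) = -(c * c * z') := by
      refine mul_left_cancel₀ h2 ?_
      linear_combination (-z' - P) * hB - (z' - P) * hBc
    have hy1 : y.1 * ((z' - P) * (-z' - P)) = -(c * c * z') - c * c * N / 2 := by
      linear_combination hC1 - hA / 2
    have hkey : P * z' * (2 * P - N) = 0 := by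
      have hu' : c * u m = P := rfl
      have hα' : (P * P + z' * z') * y.1 - c * κ m * P * y.2 = c * c * (z' + N / 2) := by
        field_simp at hα ⊢
        rw [hPdef]
        linear_combination hα
      have hy2' : y.2 * ((z' - P) * (-z' - P)) = c * m * (-z' - P) := by
        linear_combination (-z' - P) * hb
      refine mul_left_cancel₀ (mul_ne_zero hc0 hc0) ?_
      rw [mul_zero, hN]
      linear_combination -((z' - P) * (-z' - P)) * hα' + (P * P + z' * z') * hy1 - c * κ m * P * hy2' -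
        c * c * P * P * (κ m * m) * (mul_inv_cancel₀ h2)
    have hP0 : P ≠ 0 := mul_ne_zero hc0 hu0
    have h3 := (mul_eq_zero.1 hkey).resolve_left (mul_ne_zero hP0 hz'0)
    field_simp
    linear_combination h3
  have hmU := W.mk'_mem C x
  have hm1 := hmkne x hx hx0
  obtain ⟨y, hy, hFy⟩ := W.exists_mk' C hs (W.F_mem hmU hm1)
  have hb := betaF x hx hx2 y hy hFy
  rw [hP x.2 hx2, add_sub_cancel_right] at hb
  have hy2 : y.2 ≠ 0 := fun e => by rw [e, zero_mul] at hb; exact mul_ne_zero hc0 hx2 hb.symm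
  have hb' := betaF y hy hy2 x hx (by rw [hFy, (W.F_rule hmU hm1).1])
  rw [hP y.2 hy2, add_sub_cancel_right] at hb'
  have e1 : y.1 = c * c / x.1 := by
    rw [eq_div_iff hx1]
    refine mul_left_cancel₀ hx2 ?_
    linear_combination x.1 * hb' + c * hb
  rw [← hFy]
  congr 1
  refine Prod.ext e1 ?_
  rw [eq_div_iff hx1]
  exact hb

end Swap

end CfsgLib.LocalEvenB.OddUnitary
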