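import Cfsg.Agent.Lib.LocalEvenB.OddUnitary.Torus

/-!
Owner: helper20. The swap maps the elements of `U` inverted by `t` to elements inverted by `t`; in
particular they do not form a subgroup.
-/

set_option autoImplicit false
set_option linter.all false

universe u v

namespace CfsgLib.LocalEvenB.OddUnitary

theorem two_ne_galois {p k : ℕ} [hp : Fact p.Prime] (hp2 : p ≠ 2) : (2 : GaloisField p k) ≠ 0 := by
  haveI : CharP (GaloisField p k) p := inferInstance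
  intro h
  have h2 : ((2 : ℕ) : GaloisField p k) = 0 := by exact_mod_cast h
  rw [CharP.cast_eq_zero_iff _ p] at h2
  exact hp2 ((Nat.prime_dvd_prime_iff_eq hp.out Nat.prime_two).1 h2)

namespace Swap

variable {G : Type u} {Ω : Type v} [Group G] [MulAction G Ω] [Finite G] [FaithfulSMul G Ω]
  {p n d : ℕ} [Fact p.Prime] {S : Hyp G Ω p n d} (W : Swap S) (C : Scalars S) (hs : W.s ∈ S.refl)

include C hs

theorem exists_root {l : GaloisField p (2 * n)} (hl : l ^ (p ^ n - 1) = 1) :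
    ∃ h ∈ S.H, C.ξ h = l ∧ h ^ (p ^ n - 1) = 1 := by
  obtain ⟨h, hh, e⟩ := C.exists_ξ (l := l) (by rw [W.card_H_eq C hs, pow_mul, hl, one_pow])
  refine ⟨h, hh, e, C.faithful (pow_mem hh _) ?_⟩
  rw [C.ξ_pow hh, e, hl]

theorem exists_dbl : ∃ h ∈ S.H, W.pr h = h⁻¹ ∧ ∀ x, S.IsInv x → cj h x = x * x := by
  have h2 : (2 : GaloisField p (2 * n)) ^ (p ^ n - 1) = 1 := by
    have e : (2 : GaloisField p (2 * n)) ^ p ^ n = 2 := by
      rw [← iterateFrobenius_def (p := p)]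
      exact map_ofNat _ 2
    have hq := S.q_ge
    refine mul_left_cancel₀ (two_ne_galois S.odd) ?_
    rw [← pow_succ', show p ^ n - 1 + 1 = p ^ n by omega, e, mul_one]
  obtain ⟨h, hh, e, he⟩ := W.exists_root C hs h2
  refine ⟨h, hh, W.pr_real C hs hh he, fun x hx => ?_⟩
  refine C.inv_ext (S.cj_inv_set hh hx) (S.isInv_sq hx) ?_
  rw [C.β_cj h hh x hx.1, e, C.β_mul x hx.1 x hx.1]
  exact two_mul (C.β x)

omit hs in
theorem F_Z0 {x : G} (hx : x ∈ S.Z0) (hx1 : x ≠ 1) : W.F x ∈ S.Z0 := by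
  have hxU := (S.mem_Z0.1 hx).1
  refine S.mem_Z0.2 ⟨W.F_mem hxU hx1, ?_⟩
  have h := (W.conj_rule hxU hx1 S.t_mem).1
  rw [(S.mem_Z0.1 hx).2, W.pr_t] at h
  exact h.symm

/-- The image of an element inverted by `t`. -/
theorem inverted {x : G} (hx : S.IsInv x) (hx1 : x ≠ 1) :
    W.pr (W.K x) = (W.K x)⁻¹ ∧ W.F x = cj (W.K x)⁻¹ x⁻¹ ∧ W.R x = W.F x := by
  set f := W.F x with hf
  set k := W.K x with hk
  have hxU := hx.1
  have hfU : f ∈ S.U := W.F_mem hxU hx1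
  have hf1 : f ≠ 1 := W.F_ne hxU hx1
  have hkH : k ∈ S.H := W.K_mem hxU hx1
  have ht := S.t_mem
  have hct := W.conj_rule hxU hx1 ht
  rw [hx.2, W.pr_t] at hct
  obtain ⟨hi1, hi2, -⟩ := W.inv_rule hxU hx1
  -- `pr k = k⁻¹`
  have hpk : W.pr k = k⁻¹ := by
    have h1 := hct.2.1.symm.trans hi2
    rw [S.t_inv, S.H_comm ht hkH, mul_assoc, S.t_mul, mul_one] at h1
    exact inv_injective (by rw [inv_inv]; exact h1.symm)
  have hR : W.R x = (cj S.t f)⁻¹ := by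
    have h1 := hct.1.symm.trans hi1
    rw [h1, inv_inv]
  have hff := W.F_rule hxU hx1
  obtain ⟨z, hz, π, hπ, hfz⟩ := S.decomp hfU
  have hzπ : z * π = π * z := S.Z0_comm_inv hz hπ
  have htf : cj S.t f = z * π⁻¹ := by rw [hfz, cj_mul, (S.mem_Z0.1 hz).2, hπ.2]
  have hπ1 : π ≠ 1 := fun h => by
    rw [h, mul_one] at hfz
    have hxZ := W.F_Z0 C (x := f) (hfz ▸ hz) hf1
    rw [hf, hff.1] at hxZ
    exact hx1 (S.eq_one_of_inv_Z0 hx hxZ)
  set y := π * π with hy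
  have hyI : S.IsInv y := S.isInv_sq hπ
  have hy1 : y ≠ 1 := fun h => hπ1 (S.U_no_inv hπ.1 h)
  have hy_eq : f * (cj S.t f)⁻¹ = y := by
    rw [htf, hfz, mul_inv_rev, inv_inv, hy]
    rw [show z * π * (π * z⁻¹) = z * (π * π) * z⁻¹ by group,
      S.Z0_comm_inv hz (S.isInv_sq hπ), mul_inv_cancel_right]
  have hy_eq' : (cj S.t f)⁻¹ * f = y := by rw [htf, hfz, hy]; group
  obtain ⟨h, hh, hph, hdbl⟩ := W.exists_dbl C hs
  set ρ := cj h⁻¹ π with hρ
  have hρI : S.IsInv ρ := S.cj_inv_set (inv_mem hh) hπ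
  have hρ2 : ρ * ρ = π := by
    rw [← hdbl ρ hρI, hρ, cj_cj, mul_inv_cancel, cj_one_left]
  -- first step
  have step1 : W.F y = cj k (f⁻¹ * cj h⁻¹ f) := by
    have h1 := W.mul_rule hxU hx1 hxU hx1 (by rw [hR, ← hf, hy_eq']; exact hy1)
    rw [hR, ← hf, hy_eq', ← hk, hpk, ← hdbl x hx, (W.conj_rule hxU hx1 hh).1, hph, ← hf] at h1
    rw [h1, inv_mul_cancel_left, cj_cj, mul_inv_cancel, cj_one_left]
  have hFyU : W.F y ∈ S.U := W.F_mem hyI.1 hy1
  -- second step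
  have step2 : x = W.F y * (cj S.t (W.F y))⁻¹ := by
    have htfU : cj S.t f ∈ S.U := S.cj_mem_U ht hfU
    have htf1 : cj S.t f ≠ 1 := by rwa [Ne, cj_eq_one]
    have hRf : W.R f = cj k (cj S.t f) := by
      rw [hf, hff.2.2, ← hf, ← hk, hR, cj_inv, inv_inv]
    have hF2 : W.F (cj S.t f)⁻¹ = (cj k f)⁻¹ := by
      rw [(W.inv_rule htfU htf1).1, (W.conj_rule hfU hf1 ht).2.2, W.pr_t, hRf, cj_cj, cj_cj]
      congr 2
      rw [mul_assoc, S.H_comm hkH ht, ← mul_assoc, S.t_mul, one_mul]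
    have hw : W.R f * W.F (cj S.t f)⁻¹ = cj (k * S.t) y := by
      rw [hRf, hF2, ← cj_inv, ← cj_mul, ← cj_cj, hyI.2, ← hy_eq, mul_inv_rev, inv_inv]
    have h2 := W.mul_rule hfU hf1 (inv_mem htfU) (inv_ne_one.2 htf1)
      (by rw [hw, Ne, cj_eq_one]; exact hy1)
    rw [hw, hy_eq, (W.conj_rule hyI.1 hy1 (mul_mem hkH ht)).1, hf, hff.1, hff.2.1, ← hk, W.pr_inv,
      hpk, inv_inv, W.pr_mul, hpk, W.pr_t, cj_cj, ← mul_assoc, mul_inv_cancel, one_mul] at h2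
    exact eq_mul_inv_of_mul_eq h2.symm
  set z3 := z⁻¹ * cj h⁻¹ z with hz3
  have hz3Z : z3 ∈ S.Z0 := mul_mem (inv_mem hz) (S.cj_Z0 (inv_mem hh) hz)
  have hFy : W.F y = cj k (z3 * ρ⁻¹) := by
    rw [step1]
    congr 1
    rw [hfz, cj_mul, mul_inv_rev, ← hρ, show π⁻¹ * z⁻¹ * (cj h⁻¹ z * ρ) = π⁻¹ * z3 * ρ by
      rw [hz3]; group, ← (show Commute z3 π from S.Z0_comm_inv hz3Z hπ).inv_right.eq, ← hρ2]
    group
  have hπx : π = cj k⁻¹ x⁻¹ := by
    have h1 : x = cj k π⁻¹ := by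
      rw [step2, hFy, cj_cj, S.H_comm ht hkH, ← cj_cj, ← cj_inv k, ← cj_mul k]
      congr 1
      rw [cj_mul, cj_inv, (S.mem_Z0.1 hz3Z).2, hρI.2, inv_inv, mul_inv_rev,
        show z3 * ρ⁻¹ * (ρ⁻¹ * z3⁻¹) = z3 * (ρ * ρ)⁻¹ * z3⁻¹ by group, hρ2,
        S.Z0_comm_inv hz3Z (S.isInv_inv hπ), mul_inv_cancel_right]
    rw [h1, cj_inv k⁻¹, cj_cj, inv_mul_cancel, cj_one_left, inv_inv]
  -- third step
  have hfπ : f = π := by
    have hyx : y = cj (h * k⁻¹ * S.t) x := by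
      rw [hy, ← hdbl π hπ, hπx, cj_cj, ← hx.2, cj_cj]
    have h3 : W.F y = cj k (cj h⁻¹ (cj S.t f)) := by
      rw [hyx, (W.conj_rule hxU hx1 (mul_mem (mul_mem hh (inv_mem hkH)) ht)).1, W.pr_mul, W.pr_mul,
        W.pr_inv, hph, hpk, inv_inv, W.pr_t, cj_cj, cj_cj, ← hf,
        S.H_comm (inv_mem hh) hkH]
    have h4 := cj_injective k (step1.symm.trans h3)
    have h5 : f = cj h⁻¹ f * (cj h⁻¹ (cj S.t f))⁻¹ := by rw [← h4]; group
    rw [h5, ← cj_inv, ← cj_mul, hy_eq, hy, ← hdbl π hπ, cj_cj, inv_mul_cancel, cj_one_left]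
  refine ⟨hpk, hfπ.trans hπx, ?_⟩
  rw [hR, hfπ, hπ.2, inv_inv]

theorem F_isInv {x : G} (hx : S.IsInv x) (hx1 : x ≠ 1) : S.IsInv (W.F x) := by
  rw [(W.inverted C hs hx hx1).2.1]
  exact S.cj_inv_set (inv_mem (W.K_mem hx.1 hx1)) (S.isInv_inv hx)

open scoped Pointwise in
theorem not_all_commute : ¬ ∀ x y, S.IsInv x → S.IsInv y → x * y = y * x := by
  intro hcomm
  classical
  haveI := S.finite_points
  have hmul : ∀ x y, S.IsInv x → S.IsInv y → S.IsInv (x * y) := fun x y hx hy =>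
    ⟨mul_mem hx.1 hy.1, by rw [cj_mul, hx.2, hy.2, ← mul_inv_rev, hcomm y x hy hx]⟩
  set X : Set Ω := insert S.a ((· • S.b) '' {x | S.IsInv x}) with hX
  have hone : S.IsInv 1 := ⟨one_mem _, by rw [cj_one, inv_one]⟩
  have hmem : ∀ g : G, (∀ ω ∈ X, g • ω ∈ X) → g ∈ MulAction.stabilizer G X := fun g hg => by
    rw [MulAction.mem_stabilizer_iff]
    refine Set.eq_of_subset_of_ncard_le ?_ ?_
    · rintro _ ⟨ω, hω, rfl⟩; exact hg ω hω
    · rw [show g • X = (g • ·) '' X from rfl, Set.ncard_image_of_injective _ (MulAction.injective g)]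
  set T := MulAction.stabilizer G X with hT
  have hsT : W.s ∈ T := hmem _ fun ω hω => by
    rcases hω with rfl | ⟨x, hx, rfl⟩
    · rw [W.s_a]
      exact Or.inr ⟨1, hone, one_smul _ _⟩
    · by_cases hx1 : x = 1
      · show W.s • (x • S.b) ∈ X
        rw [hx1, one_smul, W.s_b]
        exact Or.inl rfl
      · exact Or.inr ⟨_, W.F_isInv C hs hx hx1, (W.F_spec hx.1 hx1).2⟩
  have hIT : ∀ x, S.IsInv x → x ∈ T := fun x hx => hmem _ fun ω hω => by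
    rcases hω with rfl | ⟨y, hy, rfl⟩
    · exact Or.inl (S.U_fix x hx.1)
    · exact Or.inr ⟨x * y, hmul x y hx hy, mul_smul x y _⟩
  have horb : MulAction.orbit T S.a = X := by
    refine subset_antisymm ?_ ?_
    · rintro _ ⟨g, rfl⟩
      exact (MulAction.mem_stabilizer_iff.1 g.2).le ⟨S.a, Or.inl rfl, rfl⟩
    · rintro ω (rfl | ⟨x, hx, rfl⟩)
      · exact MulAction.mem_orbit_self _
      · refine ⟨⟨x * W.s, mul_mem (hIT x hx) hsT⟩, ?_⟩
        show (x * W.s) • S.a = x • S.b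
        rw [mul_smul, W.s_a]
  have hXcard : X.ncard = (p ^ n) ^ 2 + 1 := by
    rw [hX, Set.ncard_insert_of_notMem (by rintro ⟨x, hx, e⟩; exact S.U_smul_ne hx.1 e) (Set.toFinite _),
      Set.ncard_image_of_injOn fun x hx y hy e => S.U_inj hx.1 hy.1 e, ← Nat.card_coe_set_eq,
      Nat.card_eq_of_bijective (fun x : {x | S.IsInv x} => C.β x)
        ⟨fun x y e => Subtype.ext (C.inv_ext x.2 y.2 e), fun l => by
          obtain ⟨x, hx, e⟩ := C.β_surj l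
          exact ⟨⟨x, hx⟩, e⟩⟩, C.card_field]
  have hdvd : (p ^ n) ^ 2 + 1 ∣ Nat.card G := by
    refine dvd_trans ?_ (Subgroup.card_subgroup_dvd_card T)
    haveI := Fintype.ofFinite T
    haveI : Fintype (MulAction.orbit T S.a) := Fintype.ofFinite _
    have h := MulAction.card_orbit_mul_card_stabilizer_eq_card_group T S.a
    rw [← Nat.card_eq_fintype_card, ← Nat.card_eq_fintype_card, ← Nat.card_eq_fintype_card,
      Nat.card_coe_set_eq, horb, hXcard] at h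
    exact Dvd.intro _ h
  rw [S.card_G, pow_mul'] at hdvd
  set Q := p ^ n with hQ
  have h1 : Q ^ 2 + 1 ∣ (Q ^ 3 + 1) * (Q ^ 2 - 1) * Q ^ 3 := by
    refine dvd_trans (Dvd.dvd.mul_left hdvd d) (dvd_of_eq ?_)
    have := S.card_H
    rw [pow_mul', ← hQ] at this
    rw [← this]; ring
  have hq := S.q_ge
  rw [← hQ] at hq
  have hcop : (Q ^ 2 + 1).Coprime (Q ^ 3) := by
    refine Nat.Coprime.pow_right _ ?_
    rw [Nat.coprime_comm, Nat.Coprime]
    rw [pow_two, Nat.gcd_mul_left_add_right]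
    exact Nat.gcd_one_right _
  have h2 := hcop.dvd_of_dvd_mul_right h1
  have h3 : ((Q : ℤ) ^ 2 + 1) ∣ ((Q : ℤ) ^ 3 + 1) * ((Q : ℤ) ^ 2 - 1) := by
    have h4 : 1 ≤ Q ^ 2 := Nat.one_le_pow _ _ (by omega)
    have := Int.natCast_dvd_natCast.2 h2
    push_cast [Nat.cast_sub h4] at this
    exact this
  have h5 : ((Q : ℤ) ^ 2 + 1) ∣ 2 * (Q : ℤ) - 2 := by
    have := dvd_sub h3 (dvd_mul_right ((Q : ℤ) ^ 2 + 1) ((Q : ℤ) ^ 3 - 2 * Q + 1))
    rwa [show ((Q : ℤ) ^ 3 + 1) * ((Q : ℤ) ^ 2 - 1) -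
      ((Q : ℤ) ^ 2 + 1) * ((Q : ℤ) ^ 3 - 2 * Q + 1) = 2 * (Q : ℤ) - 2 by ring] at this
  have hq' : (3 : ℤ) ≤ Q := by exact_mod_cast hq
  have := Int.le_of_dvd (by linarith) h5
  nlinarith

end Swap

end CfsgLib.LocalEvenB.OddUnitary
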