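import Cfsg.Agent.Lib.LocalEvenB.OddUnitary.Fixed

/-!
Owner: helper20. The involution of `H`, the reflections (its conjugates), and the count of the
reflections exchanging the two base points.
-/

set_option autoImplicit false
set_option linter.all false

namespace CfsgLib.LocalEvenB.OddUnitary

namespace Hyp

variable {G Ω : Type*} [Group G] [MulAction G Ω] {p n d : ℕ} (S : Hyp G Ω p n d)

section
include S

theorem three_le : 3 ≤ p := by have := S.prime.two_le; have := S.odd; omega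

theorem q_odd : Odd (p ^ n) := (S.prime.odd_of_ne_two S.odd).pow

theorem q_ge : 3 ≤ p ^ n :=
  le_trans S.three_le (Nat.le_self_pow (by have := S.pos; omega) p)

theorem d_cases : d = 1 ∨ d = 3 := by
  have h : d ∣ 3 := S.d_eq ▸ Nat.gcd_dvd_left 3 (p ^ n + 1)
  exact (Nat.dvd_prime Nat.prime_three).1 h

theorem d_dvd : d ∣ p ^ n + 1 := S.d_eq ▸ Nat.gcd_dvd_right 3 (p ^ n + 1)

end

theorem card_H' : d * Nat.card S.H = (p ^ n - 1) * (p ^ n + 1) := by
  rw [S.card_H, mul_comm 2 n, pow_mul, mul_comm (p ^ n - 1), ← Nat.sq_sub_sq, one_pow]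

theorem card_H_lt : Nat.card S.H < (p ^ n) ^ 2 := by
  have h := S.card_H'
  have h1 : Nat.card S.H ≤ d * Nat.card S.H := Nat.le_mul_of_pos_left _ (by rcases S.d_cases with h | h <;> omega)
  have h2 : (p ^ n - 1) * (p ^ n + 1) = (p ^ n) ^ 2 - 1 := by
    rw [mul_comm, ← Nat.sq_sub_sq, one_pow]
  have : 0 < (p ^ n) ^ 2 := pow_pos (by have := S.q_ge; omega) 2
  omega

theorem two_dvd_card_H : 2 ∣ Nat.card S.H := by
  have h : 2 ∣ d * Nat.card S.H := by
    rw [S.card_H']
    refine dvd_mul_of_dvd_right ?_ _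
    obtain ⟨k, hk⟩ := S.q_odd
    exact ⟨k + 1, by omega⟩
  refine (Nat.Coprime.dvd_of_dvd_mul_left ?_ h)
  rcases S.d_cases with h | h <;> subst h <;> decide

/-- The square root in `U`. -/
def sqU (_S : Hyp G Ω p n d) (x : G) : G := x ^ ((p ^ (3 * n) + 1) / 2)

theorem sqU_mem {x : G} (hx : x ∈ S.U) : S.sqU x ∈ S.U := pow_mem hx _

theorem sqU_sq {x : G} (hx : x ∈ S.U) : S.sqU x * S.sqU x = x := by
  have h1 : x ^ p ^ (3 * n) = 1 := by
    have := pow_card_eq_one' (x := (⟨x, hx⟩ : S.U))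
    rw [S.card_U] at this
    exact congrArg Subtype.val this
  obtain ⟨k, hk⟩ := (S.prime.odd_of_ne_two S.odd).pow (n := 3 * n)
  rw [sqU, ← pow_add, show (p ^ (3 * n) + 1) / 2 + (p ^ (3 * n) + 1) / 2 = p ^ (3 * n) + 1 by omega,
    pow_succ, h1, one_mul]

theorem eq_of_sq {x y : G} (hx : x ∈ S.U) (hy : y ∈ S.U) (h : x * x = y * y) : x = y := by
  have e : ∀ z ∈ S.U, S.sqU (z * z) = z := fun z hz => by
    have hc : Commute z z := Commute.refl z
    rw [sqU, hc.mul_pow]
    exact S.sqU_sq hz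
  rw [← e x hx, h, e y hy]

theorem U_no_inv {x : G} (hx : x ∈ S.U) (h : x * x = 1) : x = 1 :=
  S.eq_of_sq hx (one_mem _) (by rw [h, one_mul])

theorem sqU_cj {g x : G} (h : cj g x = x⁻¹) : cj g (S.sqU x) = (S.sqU x)⁻¹ := by
  rw [sqU, cj_pow, h, inv_pow]

theorem sqU_comm {g x : G} (h : g * x = x * g) : g * S.sqU x = S.sqU x * g :=
  ((show Commute g x from h).pow_right _).eq

section finite

variable [Finite G]

theorem exists_invol : ∃ t ∈ S.H, orderOf t = 2 := by
  haveI : Fact (Nat.Prime 2) := ⟨Nat.prime_two⟩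
  obtain ⟨x, hx⟩ := exists_prime_orderOf_dvd_card' (G := S.H) 2 S.two_dvd_card_H
  exact ⟨x, x.2, by rw [Subgroup.orderOf_coe]; exact hx⟩

/-- The involution of `H`. -/
noncomputable def t : G := S.exists_invol.choose

theorem t_mem : S.t ∈ S.H := S.exists_invol.choose_spec.1

theorem t_order : orderOf S.t = 2 := S.exists_invol.choose_spec.2

theorem t_mul : S.t * S.t = 1 := by
  rw [← pow_two, ← S.t_order, pow_orderOf_eq_one]

theorem t_inv : S.t⁻¹ = S.t := inv_eq_of_mul_eq_one_right S.t_mul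

theorem t_ne : S.t ≠ 1 := fun h => by
  have := S.t_order
  rw [h, orderOf_one] at this
  omega

theorem eq_t {x : G} (hx : x ∈ S.H) (h : x * x = 1) : x = 1 ∨ x = S.t := by
  haveI : Fact (Nat.Prime 2) := ⟨Nat.prime_two⟩
  by_cases h1 : x = 1
  · exact Or.inl h1
  refine Or.inr ?_
  have hx2 : orderOf x = 2 := orderOf_eq_prime (by rw [pow_two, h]) h1
  have := zpowers_eq_of_cyclic S.cyc hx S.t_mem (hx2.trans S.t_order.symm)
  obtain ⟨k, hk⟩ := Subgroup.mem_zpowers_iff.1 (this.le (Subgroup.mem_zpowers x))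
  rcases Int.even_or_odd k with ⟨l, rfl⟩ | ⟨l, rfl⟩
  · exact absurd (by rw [← hk, ← two_mul, zpow_mul, show S.t ^ (2 : ℤ) = 1 by
      rw [zpow_two, S.t_mul], one_zpow]) h1
  · rw [← hk, zpow_add, zpow_mul, show S.t ^ (2 : ℤ) = 1 by rw [zpow_two, S.t_mul], one_zpow,
      one_mul, zpow_one]

theorem cj_t_t (x : G) : cj S.t (cj S.t x) = x := by rw [cj_cj, S.t_mul, cj_one_left]

theorem swap_t {g : G} (ga : g • S.a = S.b) (gb : g • S.b = S.a) : g * S.t = S.t * g := by
  have h := S.eq_t (S.conj_mem_H_of_swap ga gb S.t_mem)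
    (by rw [← cj_mul, S.t_mul, cj_one])
  rcases h with h | h
  · exact absurd (cj_eq_one.1 h) S.t_ne
  · exact cj_eq_iff.1 h

/-- An involution fixing `a` is conjugate to `t` by an element of `U`. -/
theorem exists_conj_of_fix {j : G} (hj : j * j = 1) (hj1 : j ≠ 1) (ha : j • S.a = S.a) :
    ∃ u ∈ S.U, j = cj u S.t ∧ ∀ x : G, x * j = j * x → x * S.t = S.t * x → x * u = u * x := by
  obtain ⟨h, hh, u, hu, rfl⟩ := S.exists_decomp ha
  have e : h * h * (cj h⁻¹ u * u) = 1 * 1 := by
    rw [one_mul, ← hj]; simp only [cj, inv_inv]; group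
  obtain ⟨e1, e2⟩ := S.decomp_unique (mul_mem hh hh) (one_mem _)
    (mul_mem (S.cj_mem_U (inv_mem hh) hu) hu) (one_mem _) e
  rcases S.eq_t hh e1 with rfl | rfl
  · exfalso
    simp only [inv_one, cj_one_left] at e2
    exact hj1 (by rw [S.U_no_inv hu e2, mul_one])
  rw [S.t_inv] at e2
  have hu' : cj S.t u = u⁻¹ := eq_inv_of_mul_eq_one_left e2
  have hw := S.sqU_sq hu
  have hw' : S.t * S.sqU u * S.t = (S.sqU u)⁻¹ := by
    have := S.sqU_cj hu'
    rwa [cj, S.t_inv] at this
  refine ⟨(S.sqU u)⁻¹, inv_mem (S.sqU_mem hu), ?_, ?_⟩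
  · have h3 : S.t * (S.sqU u)⁻¹ * S.t = S.sqU u := by
      have := congrArg (·⁻¹) hw'
      simpa [mul_inv_rev, S.t_inv, mul_assoc] using this
    calc S.t * u = S.t * (S.sqU u * S.sqU u) := by rw [hw]
      _ = S.t * ((S.t * (S.sqU u)⁻¹ * S.t) * S.sqU u) := by rw [h3]
      _ = cj (S.sqU u)⁻¹ S.t := by
        simp only [cj, inv_inv, mul_assoc]
        rw [← mul_assoc S.t S.t, S.t_mul, one_mul]
  · intro x hxj hxt
    have hxu : x * u = u * x := by
      have e3 := hxj
      rw [← mul_assoc, hxt, mul_assoc, mul_assoc] at e3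
      exact mul_left_cancel e3
    exact ((show Commute x (S.sqU u) from S.sqU_comm hxu).inv_right).eq

/-- The conjugates of `t`. -/
def refl : Set G := Set.range fun g => cj g S.t

theorem refl_sq {j : G} (hj : j ∈ S.refl) : j * j = 1 ∧ j ≠ 1 := by
  obtain ⟨g, rfl⟩ := hj
  exact ⟨by rw [← cj_mul, S.t_mul, cj_one], fun h => S.t_ne (cj_eq_one.1 h)⟩

theorem refl_cj {j : G} (hj : j ∈ S.refl) (g : G) : cj g j ∈ S.refl := by
  obtain ⟨x, rfl⟩ := hj
  exact ⟨g * x, (cj_cj g x _).symm⟩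

theorem centralizer_t :
    Subgroup.centralizer ({S.t} : Set G) =
      Subgroup.normalizer ((Subgroup.zpowers S.t : Subgroup G) : Set G) := by
  refine le_antisymm (fun g hg => S.mem_normalizer_of S.t_mem ?_) fun g hg => ?_
  · rw [cj_eq_iff.2 (Subgroup.mem_centralizer_singleton_iff.1 hg)]
    exact S.t_mem
  · have h1 := (Subgroup.mem_normalizer_iff.1 hg S.t).1 (Subgroup.mem_zpowers _)
    have h2 : cj g S.t ∈ S.H := Subgroup.zpowers_le.2 S.t_mem h1
    rcases S.eq_t h2 (by rw [← cj_mul, S.t_mul, cj_one]) with h | h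
    · exact absurd (cj_eq_one.1 h) S.t_ne
    · exact Subgroup.mem_centralizer_singleton_iff.2 (cj_eq_iff.1 h)

theorem card_refl_mul :
    Nat.card S.refl * ((Nat.card (S.cU S.t) + 1) * Nat.card (S.cU S.t) * Nat.card S.H) = Nat.card G := by
  rw [← S.card_normalizer S.t_mem, ← S.centralizer_t,
    Subgroup.card_eq_card_quotient_mul_card_subgroup (Subgroup.centralizer ({S.t} : Set G))]
  congr 1
  symm
  have hwd : ∀ x y : G, x⁻¹ * y ∈ Subgroup.centralizer ({S.t} : Set G) ↔ cj x S.t = cj y S.t := by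
    intro x y
    rw [Subgroup.mem_centralizer_singleton_iff, ← cj_eq_iff, ← cj_cj]
    constructor
    · intro h
      have := congrArg (cj x) h
      rwa [cj_cj, mul_inv_cancel, cj_one_left, eq_comm] at this
    · intro h
      rw [← h, cj_cj, inv_mul_cancel, cj_one_left]
  refine Nat.card_eq_of_bijective (fun x => Quotient.liftOn' x (fun g => (⟨cj g S.t, g, rfl⟩ : S.refl))
    fun g g' hgg => Subtype.ext ((hwd g g').1 (QuotientGroup.leftRel_apply.1 hgg))) ⟨?_, ?_⟩
  · intro x y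
    induction x using QuotientGroup.induction_on with | _ x => ?_
    induction y using QuotientGroup.induction_on with | _ y => ?_
    intro h
    exact QuotientGroup.eq.2 ((hwd x y).2 (congrArg Subtype.val h))
  · rintro ⟨_, g, rfl⟩
    exact ⟨(g : G ⧸ _), rfl⟩

/-- The reflections exchanging `a` and `b`. -/
def swaps : Set G := {j | j ∈ S.refl ∧ j • S.a = S.b}

theorem swaps_b {j : G} (hj : j ∈ S.swaps) : j • S.b = S.a := by
  rw [← hj.2, ← mul_smul, (S.refl_sq hj.1).1, one_smul]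

theorem ncard_swaps_le : S.swaps.ncard ≤ Nat.card S.H := by
  obtain ⟨g, ga, gb⟩ := S.exists_swap
  refine le_of_le_of_eq (Set.ncard_le_ncard_of_injOn (fun j => g⁻¹ * j) (fun j hj => ?_)
    (fun _ _ _ _ h => mul_left_cancel h) (Set.toFinite _)) (Nat.card_coe_set_eq _).symm
  show g⁻¹ * j ∈ S.H
  rw [S.mem_H, mul_smul, mul_smul, hj.2, S.swaps_b hj, inv_smul_eq_iff, inv_smul_eq_iff, ga, gb]
  exact ⟨rfl, rfl⟩

theorem count_pairs :
    Nat.card S.refl * (p ^ (3 * n) + 1 - (Nat.card (S.cU S.t) + 1)) =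
      (p ^ (3 * n) + 1) * p ^ (3 * n) * S.swaps.ncard := by
  classical
  haveI := S.finite_points
  haveI := Fintype.ofFinite G
  haveI := Fintype.ofFinite Ω
  set R : Finset G := S.refl.toFinset with hR
  set P : Finset (G × Ω) := (R ×ˢ (Finset.univ : Finset Ω)).filter fun z => z.1 • z.2 ≠ z.2 with hP
  have hΩ : (Finset.univ : Finset Ω).card = p ^ (3 * n) + 1 := by
    rw [Finset.card_univ, ← Nat.card_eq_fintype_card, S.card_points]
  have h1 : P.card = R.card * (p ^ (3 * n) + 1 - (Nat.card (S.cU S.t) + 1)) := by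
    rw [Finset.card_eq_sum_card_fiberwise (f := Prod.fst) (t := R) fun z hz =>
      (Finset.mem_product.1 (Finset.mem_filter.1 hz).1).1]
    rw [Finset.sum_const_nat]
    intro j hj
    obtain ⟨g, hg⟩ := Set.mem_toFinset.1 hj
    have mf : ∀ y : Ω, y ∈ (S.fixSet S.t).toFinset ↔ S.t • y = y := fun y => Set.mem_toFinset
    have e : (P.filter fun z => z.1 = j) =
        ((Finset.univ \ (S.fixSet S.t).toFinset).image fun x => (j, g • x)) := by
      ext ⟨i, x⟩
      simp only [hP, Finset.mem_filter, Finset.mem_product, Finset.mem_univ, and_true,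
        Finset.mem_image, Finset.mem_sdiff, true_and, mf,
        Prod.mk.injEq]
      constructor
      · rintro ⟨⟨-, hx⟩, rfl⟩
        refine ⟨g⁻¹ • x, fun h => hx ?_, rfl, smul_inv_smul g x⟩
        rw [← hg]
        simp only [cj, mul_smul, h, smul_inv_smul]
      · rintro ⟨y, hy, rfl, rfl⟩
        refine ⟨⟨hj, fun h => hy ?_⟩, rfl⟩
        rw [← hg] at h
        simp only [cj, mul_smul, inv_smul_smul, smul_left_cancel_iff] at h
        exact h
    rw [e, Finset.card_image_of_injective _ fun x y h => smul_left_cancel g (congrArg Prod.snd h),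
      Finset.card_sdiff_of_subset (Finset.subset_univ _), hΩ, ← Set.ncard_eq_toFinset_card',
      S.ncard_fixSet S.t_mem]
  have h2 : P.card = (Finset.univ : Finset Ω).offDiag.card * S.swaps.ncard := by
    rw [Finset.card_eq_sum_card_fiberwise (f := fun z : G × Ω => (z.2, z.1 • z.2))
      (t := (Finset.univ : Finset Ω).offDiag) fun z hz => by
        rw [Finset.mem_coe, Finset.mem_offDiag]
        exact ⟨Finset.mem_univ _, Finset.mem_univ _, Ne.symm (Finset.mem_filter.1 hz).2⟩]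
    rw [Finset.sum_const_nat]
    rintro ⟨x, y⟩ hxy
    have hne : x ≠ y := (Finset.mem_offDiag.1 hxy).2.2
    obtain ⟨g, ga, gb⟩ := S.two x y hne
    have ms : ∀ j : G, j ∈ S.swaps.toFinset ↔ j ∈ S.refl ∧ j • S.a = S.b := fun j => Set.mem_toFinset
    have e : (P.filter fun z : G × Ω => (z.2, z.1 • z.2) = (x, y)) =
        S.swaps.toFinset.image fun j => (cj g j, x) := by
      ext ⟨i, z⟩
      simp only [hP, hR, Finset.mem_filter, Finset.mem_product, Finset.mem_univ, and_true,
        Finset.mem_image, Set.mem_toFinset, ms, Prod.mk.injEq]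
      constructor
      · rintro ⟨⟨hi, -⟩, rfl, hiz⟩
        refine ⟨cj g⁻¹ i, ⟨S.refl_cj hi _, ?_⟩, by rw [cj_cj, mul_inv_cancel, cj_one_left], rfl⟩
        simp only [cj, inv_inv, mul_smul, ga, hiz]
        rw [← gb, inv_smul_smul]
      · rintro ⟨j, ⟨hj, hja⟩, rfl, rfl⟩
        have : cj g j • x = y := by
          rw [← ga]
          simp only [cj, mul_smul, inv_smul_smul, hja, gb]
        exact ⟨⟨S.refl_cj hj g, by rw [this]; exact Ne.symm hne⟩, rfl, this⟩
    rw [e, Finset.card_image_of_injective _ fun u v h => cj_injective g (congrArg Prod.fst h),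
      ← Set.ncard_eq_toFinset_card']
  rw [h1, Finset.offDiag_card, hΩ] at h2
  rw [Nat.card_coe_set_eq, Set.ncard_eq_toFinset_card', h2, ← Nat.mul_sub_one]
  simp

theorem swaps_count :
    (Nat.card (S.cU S.t) + 1) * Nat.card (S.cU S.t) * S.swaps.ncard =
      p ^ (3 * n) - Nat.card (S.cU S.t) := by
  set c := Nat.card (S.cU S.t)
  set R := Nat.card S.refl
  set Q := p ^ (3 * n)
  have h1 : R * ((c + 1) * c) = (Q + 1) * Q := by
    refine Nat.eq_of_mul_eq_mul_right (Nat.card_pos (α := S.H)) ?_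
    rw [mul_assoc, S.card_refl_mul, S.card_G]; ring
  have h2 : R * (Q + 1 - (c + 1)) = (Q + 1) * Q * S.swaps.ncard := S.count_pairs
  rw [← h1, mul_assoc] at h2
  have hR : R ≠ 0 := fun h => by
    rw [h, zero_mul] at h1
    have : 0 < (Q + 1) * Q := Nat.mul_pos (by omega) (pow_pos S.prime.pos _)
    omega
  have := Nat.eq_of_mul_eq_mul_left (Nat.pos_of_ne_zero hR) h2
  omega

end finite

end Hyp

end CfsgLib.LocalEvenB.OddUnitary
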