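import Cfsg.Agent.Lib.LocalEvenB.OddUnitary.Formula
import Cfsg.Agent.Lib.LocalEvenB.OddUnitary.Model
import Cfsg.Agent.S0322

/-!
Owner: helper20. A simple doubly transitive group of odd unitary type is `PSU₃(q)`, and the setup
coming from a `(B, N)`-pair of rank one.
-/

set_option autoImplicit false
set_option linter.all false

universe u v

namespace CfsgLib.LocalEvenB.OddUnitary

open CfsgLib.Classical CfsgLib.Classical.Herm
open scoped Pointwise

/-- **Odd unitary type.** -/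
theorem Hyp.nonempty_equiv {G : Type u} {Ω : Type v} [Group G] [MulAction G Ω] [Finite G]
    [FaithfulSMul G Ω] [IsSimpleGroup G] {p n d : ℕ} [Fact p.Prime] (S : Hyp G Ω p n d)
    [Fintype (GaloisField p (2 * n))] :
    Nonempty (G ≃* Cfsg.PSU 3 (GaloisField p (2 * n)) (p ^ n)) := by
  classical
  obtain ⟨W, hs⟩ := S.exists_refl_swap
  obtain ⟨C⟩ := S.exists_scalars
  obtain ⟨c, hc0, hcr, hF⟩ := W.exists_formula C hs
  have hσ : IsInvol (cnj p n) := cnj_isInvol (by have := S.pos; omega)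
  obtain ⟨ν, hν⟩ := hσ.exists_norm_eq (μ := 1 / c) (by rw [map_div₀, map_one, hcr])
  have hν0 : ν ≠ 0 := fun e => by
    rw [e, zero_mul] at hν
    exact one_div_ne_zero hc0 hν.symm
  have hcν : c * cnj p n ν * ν = 1 := by
    rw [mul_assoc, mul_comm (cnj p n ν) ν, hν]
    field_simp
  have hcard : Fintype.card (GaloisField p (2 * n)) = (p ^ n) ^ 2 := by
    rw [← Nat.card_eq_fintype_card, C.card_field]
  have hq2 : p ^ n ≠ 2 := by have := S.q_ge; omega
  -- the two coordinate systems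
  let toX : Model.Pt (GaloisField p (2 * n)) (p ^ n) →
      GaloisField p (2 * n) × GaloisField p (2 * n) := fun r => (c * r.1.1, r.1.2 / ν)
  have htoX : ∀ r, OnU (toX r) := fun r => by
    have h := r.2
    rw [pow_succ, ← cnj_apply, ← cnj_apply] at h
    show c * r.1.1 + cnj p n (c * r.1.1) + cnj p n (r.1.2 / ν) * (r.1.2 / ν) = 0
    rw [map_mul, hcr, map_div₀]
    have hκν : cnj p n ν ≠ 0 := (map_ne_zero _).2 hν0
    field_simp
    linear_combination (c * cnj p n ν * ν) * h -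
      (cnj p n r.1.2 * r.1.2) * hcν
  have htoX_inj : Function.Injective toX := fun r r' e => by
    have e1 : c * r.1.1 = c * r'.1.1 := congrArg Prod.fst e
    have e2 : r.1.2 / ν = r'.1.2 / ν := congrArg Prod.snd e
    exact Subtype.ext (Prod.ext (mul_left_cancel₀ hc0 e1) (by field_simp at e2; exact e2))
  have htoX_surj : ∀ x, OnU x → ∃ r, toX r = x := fun x hx => by
    refine ⟨⟨(x.1 / c, ν * x.2), ?_⟩, ?_⟩
    · show x.1 / c + (x.1 / c) ^ p ^ n + (ν * x.2) ^ (p ^ n + 1) = 0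
      rw [pow_succ, ← cnj_apply, ← cnj_apply, map_div₀, map_mul, hcr]
      have hx' : x.1 + cnj p n x.1 + cnj p n x.2 * x.2 = 0 := hx
      field_simp
      linear_combination hx' + (cnj p n x.2 * x.2) * hcν
    · show (c * (x.1 / c), ν * x.2 / ν) = x
      field_simp
  have hone : W.mk' C (0, 0) = 1 := by
    rw [W.mk'_zero_right]
    have h0 := W.iota_add C (0 : GaloisField p (2 * n)) 0
    rw [add_zero] at h0
    exact mul_eq_left.1 h0.symm
  have h00 : OnU ((0, 0) : GaloisField p (2 * n) × GaloisField p (2 * n)) := by simp [OnU]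
  let Ψ : Option (Model.Pt (GaloisField p (2 * n)) (p ^ n)) → Ω := fun o =>
    o.elim S.a fun r => W.mk' C (toX r) • S.b
  have hΨ : Function.Bijective Ψ := by
    refine ⟨?_, fun ω => ?_⟩
    · rintro (_ | r) (_ | r') e
      · rfl
      · exact absurd e.symm (S.U_smul_ne (W.mk'_mem C _))
      · exact absurd e (S.U_smul_ne (W.mk'_mem C _))
      · exact congrArg some (htoX_inj (W.mk'_inj C hs (htoX r) (htoX r')
          (S.U_inj (W.mk'_mem C _) (W.mk'_mem C _) e)))
    · by_cases h : ω = S.a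
      · exact ⟨none, h.symm⟩
      · obtain ⟨u, hu, rfl⟩ := S.U_reg ω h
        obtain ⟨x, hx, rfl⟩ := W.exists_mk' C hs hu
        obtain ⟨r, rfl⟩ := htoX_surj x hx
        exact ⟨some r, rfl⟩
  let e := (Equiv.ofBijective Ψ hΨ).symm
  have key : ∀ (g : G) (π : Option (Model.Pt (GaloisField p (2 * n)) (p ^ n)) →
      Option (Model.Pt (GaloisField p (2 * n)) (p ^ n))),
      (∀ o, g • Ψ o = Ψ (π o)) → ∀ ω, e (g • ω) = π (e ω) := fun g π h ω => by
    refine (Equiv.symm_apply_eq _).2 ?_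
    show g • ω = Ψ (π (e ω))
    rw [← h]
    exact congrArg (g • ·) ((Equiv.ofBijective Ψ hΨ).apply_symm_apply ω).symm
  -- the swap
  have hsw : ∀ o, W.s • Ψ o = Ψ (Model.swapFun hcard o) := by
    rintro (_ | r)
    · show W.s • S.a = W.mk' C (c * 0, 0 / ν) • S.b
      rw [mul_zero, zero_div, hone, one_smul, W.s_a]
    by_cases h : r.1.1 = 0
    · rw [Model.swapFun_zero hcard h, Model.eq_zeroPt hcard h]
      show W.s • (W.mk' C (c * 0, 0 / ν) • S.b) = S.a
      rw [mul_zero, zero_div, hone, one_smul, W.s_b]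
    obtain ⟨r', hr', e'⟩ := Model.swapFun_some hcard h
    rw [e']
    show W.s • (W.mk' C (toX r) • S.b) = W.mk' C (toX r') • S.b
    have hne : toX r ≠ 0 := fun e => mul_ne_zero hc0 h (congrArg Prod.fst e)
    have hne1 : W.mk' C (toX r) ≠ 1 := fun e => hne (W.mk'_inj C hs (htoX r) h00 (e.trans hone.symm))
    rw [← (W.F_spec (W.mk'_mem C _) hne1).2, (hF _ (htoX r) hne).2]
    congr 2
    show (c * c / (c * r.1.1), c * (r.1.2 / ν) / (c * r.1.1)) = (c * r'.1.1, r'.1.2 / ν)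
    rw [show r'.1.1 = r.1.1⁻¹ from congrArg Prod.fst hr',
      show r'.1.2 = r.1.2 / r.1.1 from congrArg Prod.snd hr']
    refine Prod.ext ?_ ?_ <;> field_simp
  -- the translations
  have htr : ∀ (y : Model.Pt (GaloisField p (2 * n)) (p ^ n)) (o),
      W.mk' C (toX y) • Ψ o = Ψ (Model.transPerm hcard y o) := by
    rintro y (_ | r)
    · exact S.U_fix _ (W.mk'_mem C _)
    show W.mk' C (toX y) • (W.mk' C (toX r) • S.b) = W.mk' C (toX (Model.transFun hcard y r)) • S.b
    rw [← mul_smul, W.mk'_mul]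
    congr 2
    show (c * y.1.1 + c * r.1.1 - cnj p n (y.1.2 / ν) * (r.1.2 / ν), y.1.2 / ν + r.1.2 / ν) =
      (c * (r.1.1 + y.1.1 - y.1.2 ^ p ^ n * r.1.2), (r.1.2 + y.1.2) / ν)
    rw [← cnj_apply, map_div₀]
    have hκν : cnj p n ν ≠ 0 := (map_ne_zero _).2 hν0
    refine Prod.ext ?_ ?_
    · show c * y.1.1 + c * r.1.1 - cnj p n y.1.2 / cnj p n ν * (r.1.2 / ν) = _
      field_simp
      linear_combination (cnj p n y.1.2 * r.1.2) * hcν
    · show y.1.2 / ν + r.1.2 / ν = (r.1.2 + y.1.2) / ν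
      ring
  obtain ⟨E⟩ := Model.nonempty_closure_equiv hcard hq2 e (S.U : Set G) W.s (key _ _ hsw)
    (fun g hg => by
      obtain ⟨x, hx, rfl⟩ := W.exists_mk' C hs hg
      obtain ⟨y, rfl⟩ := htoX_surj x hx
      exact ⟨y, key _ _ (htr y)⟩)
    (fun y => ⟨_, W.mk'_mem C (toX y), key _ _ (htr y)⟩)
  -- the closure is everything
  set X := Subgroup.closure ((S.U : Set G) ∪ {W.s}) with hX
  have hUX : ∀ u ∈ S.U, u ∈ X := fun u hu => Subgroup.subset_closure (Or.inl hu)
  have hsX : W.s ∈ X := Subgroup.subset_closure (Or.inr rfl)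
  have hcj : Subgroup.normalClosure (S.U : Set G) ≤ X := by
    rw [Subgroup.normalClosure, Subgroup.closure_le]
    intro x hx
    obtain ⟨u, hu, hux⟩ := Group.mem_conjugatesOfSet_iff.1 hx
    obtain ⟨g, rfl⟩ := isConj_iff.1 hux
    obtain ⟨k, hk, hka⟩ : ∃ k ∈ X, k • S.a = g • S.a := by
      by_cases h : g • S.a = S.a
      · exact ⟨1, one_mem _, by rw [one_smul, h]⟩
      · obtain ⟨v, hv, hvb⟩ := S.U_reg _ h
        exact ⟨v * W.s, mul_mem (hUX v hv) hsX, by rw [mul_smul, W.s_a, hvb]⟩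
    have h1 := S.U_norm (k⁻¹ * g) (by rw [mul_smul, ← hka, inv_smul_smul]) u hu
    have e1 : g * u * g⁻¹ = k * cj (k⁻¹ * g) u * k⁻¹ := by simp only [cj]; group
    show g * u * g⁻¹ ∈ X
    rw [e1]
    exact mul_mem (mul_mem hk (hUX _ h1)) (inv_mem hk)
  have htop : X = ⊤ := by
    rcases (Subgroup.normalClosure_normal (s := (S.U : Set G))).eq_bot_or_eq_top with h | h
    · exfalso
      have h1 : S.U = ⊥ := eq_bot_iff.2 fun u hu =>
        h.le (Subgroup.subset_normalClosure hu)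
      have h2 := S.card_U
      rw [h1, Subgroup.card_bot] at h2
      exact absurd h2.symm (Nat.one_lt_pow (by have := S.pos; omega) S.prime.one_lt).ne'
    · exact top_le_iff.1 (h ▸ hcj)
  exact ⟨(Subgroup.topEquiv.symm.trans (MulEquiv.subgroupCongr htop.symm)).trans E⟩

/-- The setup of a `(B, N)`-pair of rank one. -/
theorem nonempty_hyp {G : Type u} [Group G] [Finite G] [IsSimpleGroup G]
    (P : Cfsg.BNPair G) (h1 : P.rank = 1) {p n : ℕ} (hp : p.Prime) (hp2 : p ≠ 2) (hn : 1 ≤ n)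
    (U : Subgroup G) (hUB : U ≤ P.B) (hUn : ∀ b ∈ P.B, ∀ u ∈ U, b * u * b⁻¹ ∈ U)
    (hsplit : U ⊔ (P.B ⊓ P.N) = P.B) (hdisj : U ⊓ (P.B ⊓ P.N) = ⊥)
    (hind : P.B.index = p ^ (3 * n) + 1) (hU : Nat.card U = p ^ (3 * n))
    (hHc : IsCyclic ↥(P.B ⊓ P.N))
    (hH : Nat.gcd 3 (p ^ n + 1) * Nat.card ↥(P.B ⊓ P.N) = p ^ (2 * n) - 1) :
    FaithfulSMul G (G ⧸ P.B) ∧ Nonempty (Hyp G (G ⧸ P.B) p n (Nat.gcd 3 (p ^ n + 1))) := by
  classical
  set H := P.B ⊓ P.N with hHdef
  haveI h2t := Cfsg.Agent.S0322.result P h1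
  rw [MulAction.is_two_pretransitive_iff] at h2t
  have hq : 2 ≤ p ^ (3 * n) + 1 := by
    have := Nat.one_le_pow (3 * n) p hp.pos; omega
  obtain ⟨w, hwN, hwB⟩ : ∃ w ∈ P.N, w ∉ P.B := by
    by_contra hcon
    push_neg at hcon
    have htop : P.B = ⊤ := top_le_iff.1 (P.sup_eq_top ▸ sup_le le_rfl hcon)
    rw [htop, Subgroup.index_top] at hind
    omega
  let a : G ⧸ P.B := ((1 : G) : G ⧸ P.B)
  let b : G ⧸ P.B := ((w : G) : G ⧸ P.B)
  have hfix : ∀ g : G, g • a = a ↔ g ∈ P.B := fun g => by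
    show ((g * 1 : G) : G ⧸ P.B) = ((1 : G) : G ⧸ P.B) ↔ _
    rw [QuotientGroup.eq, mul_one, mul_one]
    exact inv_mem_iff
  have hab : a ≠ b := fun e => hwB (by
    have := QuotientGroup.eq.1 e
    rwa [inv_one, one_mul] at this)
  have hHb : ∀ h ∈ H, h • b = b := fun h hh => by
    show ((h * w : G) : G ⧸ P.B) = ((w : G) : G ⧸ P.B)
    rw [QuotientGroup.eq]
    have := P.conj_mem w⁻¹ (inv_mem hwN) h⁻¹ (inv_mem hh)
    rw [inv_inv] at this
    rwa [mul_inv_rev]
  -- the orbit of `b` under `B`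
  haveI : Finite (G ⧸ P.B) := inferInstance
  have hΩ : Nat.card (G ⧸ P.B) = p ^ (3 * n) + 1 := hind
  have horb : MulAction.orbit P.B b = {a}ᶜ := by
    ext x
    constructor
    · rintro ⟨g, rfl⟩ (e : (g : G) • b = a)
      exact hab (smul_left_cancel (g : G) (((hfix g).2 g.2).trans e.symm))
    · intro hx
      obtain ⟨g, ga, gb⟩ := h2t hab (Ne.symm hx)
      exact ⟨⟨g, (hfix g).1 ga⟩, gb⟩
  have hBcard : Nat.card P.B = Nat.card U * Nat.card H := by
    have hnorm : H ≤ Subgroup.normalizer (U : Set G) := fun h hh => by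
      rw [Subgroup.mem_normalizer_iff]
      exact fun u => ⟨fun hu => hUn h hh.1 u hu, fun hu => by
        have := hUn h⁻¹ (inv_mem hh.1) _ hu
        rwa [show h⁻¹ * (h * u * h⁻¹) * h⁻¹⁻¹ = u by group] at this⟩
    have hcoe : (P.B : Set G) = (U : Set G) * (H : Set G) := by
      rw [← hsplit, Subgroup.coe_mul_of_right_le_normalizer_left U H hnorm]
    rw [← Nat.card_prod]
    refine (Nat.card_eq_of_bijective
      (fun x : U × H => (⟨x.1.1 * x.2.1, by
        rw [← SetLike.mem_coe, hcoe]; exact Set.mul_mem_mul x.1.2 x.2.2⟩ : P.B)) ⟨?_, ?_⟩).symm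
    · rintro ⟨⟨u, hu⟩, ⟨h, hh⟩⟩ ⟨⟨u', hu'⟩, ⟨h', hh'⟩⟩ e
      have e0 : u * h = u' * h' := congrArg Subtype.val e
      have e1 : u'⁻¹ * u = h' * h⁻¹ := by
        rw [eq_mul_inv_iff_mul_eq, mul_assoc, e0, inv_mul_cancel_left]
      have e2 : u'⁻¹ * u ∈ U ⊓ H := ⟨U.mul_mem (U.inv_mem hu') hu, e1 ▸ H.mul_mem hh' (H.inv_mem hh)⟩
      rw [hdisj, Subgroup.mem_bot] at e2
      have e3 : u' = u := inv_mul_eq_one.1 e2
      subst e3
      have e4 : h = h' := mul_left_cancel e0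
      subst e4
      rfl
    · rintro ⟨x, hx⟩
      rw [← SetLike.mem_coe, hcoe] at hx
      obtain ⟨u, hu, h, hh, rfl⟩ := hx
      exact ⟨(⟨u, hu⟩, ⟨h, hh⟩), rfl⟩
  have hmemH : ∀ g : G, g ∈ H ↔ g • a = a ∧ g • b = b := by
    have hcs : Nat.card (MulAction.stabilizer P.B b) = Nat.card H := by
      haveI := Fintype.ofFinite P.B
      haveI : Fintype (MulAction.orbit P.B b) := Fintype.ofFinite _
      have h := MulAction.card_orbit_mul_card_stabilizer_eq_card_group P.B b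
      rw [← Nat.card_eq_fintype_card, ← Nat.card_eq_fintype_card, ← Nat.card_eq_fintype_card,
        Nat.card_coe_set_eq, horb, Set.ncard_compl, Set.ncard_singleton, hΩ, hBcard, hU,
        Nat.add_sub_cancel] at h
      exact Nat.eq_of_mul_eq_mul_left (pow_pos hp.pos _) h
    have hsub : H.subgroupOf P.B = MulAction.stabilizer P.B b := by
      refine Subgroup.eq_of_le_of_card_ge (fun x hx => hHb x hx) ?_
      rw [hcs, Nat.card_congr (Subgroup.subgroupOfEquivOfLe (inf_le_left : H ≤ P.B)).toEquiv]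
    intro g
    constructor
    · exact fun hg => ⟨(hfix g).2 hg.1, hHb g hg⟩
    · rintro ⟨ga, gb⟩
      have hgB := (hfix g).1 ga
      have : (⟨g, hgB⟩ : P.B) ∈ H.subgroupOf P.B := by rw [hsub]; exact gb
      exact this
  have hUfix : ∀ u ∈ U, u • a = a := fun u hu => (hfix u).2 (hUB hu)
  have hfree : ∀ u ∈ U, u • b = b → u = 1 := fun u hu hub => by
    have : u ∈ U ⊓ H := ⟨hu, (hmemH u).2 ⟨hUfix u hu, hub⟩⟩
    rwa [hdisj, Subgroup.mem_bot] at this
  have hreg : ∀ x : G ⧸ P.B, x ≠ a → ∃ u ∈ U, u • b = x := by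
    intro x hx
    have hinj : Set.InjOn (· • b) (U : Set G) := fun u hu v hv e => by
      refine (inv_mul_eq_one.1 (hfree _ (mul_mem (inv_mem hv) hu) ?_)).symm
      rw [mul_smul, show u • b = v • b from e, inv_smul_smul]
    have hsub : (· • b) '' (U : Set G) ⊆ {a}ᶜ := by
      rintro _ ⟨u, hu, rfl⟩ (e : u • b = a)
      exact hab (smul_left_cancel u ((hUfix u hu).trans e.symm))
    have heq := Set.eq_of_subset_of_ncard_le hsub (by
      rw [Set.ncard_compl, Set.ncard_singleton, hΩ, Set.ncard_image_of_injOn hinj,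
        ← Nat.card_coe_set_eq]
      exact le_of_eq (by simpa using hU.symm)) (Set.toFinite _)
    have hx' : x ∈ (· • b) '' (U : Set G) := heq ▸ hx
    obtain ⟨u, hu, e⟩ := hx'
    exact ⟨u, hu, e⟩
  constructor
  · rcases (MulAction.toPermHom G (G ⧸ P.B)).normal_ker.eq_bot_or_eq_top with h | h
    · exact ⟨fun {g g'} hg => MonoidHom.ker_eq_bot_iff _ |>.1 h (Equiv.ext hg)⟩
    · exfalso
      obtain ⟨g, ga, -⟩ := h2t hab (Ne.symm hab)
      have : MulAction.toPermHom G (G ⧸ P.B) g = 1 := h.symm.le (Subgroup.mem_top g)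
      exact hab ((congrArg (fun e : Equiv.Perm (G ⧸ P.B) => e a) this).symm.trans ga)
  exact ⟨{ a := a, b := b, U := U, H := H
           prime := hp, odd := hp2, pos := hn, d_eq := rfl, ne := hab
           U_fix := hUfix
           U_norm := fun g hg u hu => hUn g ((hfix g).1 hg) u hu
           U_reg := hreg, U_free := hfree, mem_H := hmemH
           two := fun x y hxy => h2t hab hxy
           card_U := hU, cyc := hHc, card_H := hH }⟩

end CfsgLib.LocalEvenB.OddUnitary
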