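import Cfsg.Agent.Lib.LocalEvenB.OddUnitary.Decomp
import Mathlib.FieldTheory.Finite.GaloisField

/-!
Owner: helper20. `U / Z₀` is the field with `q²` elements, on which `H` acts by scalars.
-/

set_option autoImplicit false
set_option linter.all false

universe u v

namespace CfsgLib.LocalEvenB.OddUnitary

/-- An abelian group with an irreducible abelian operator group is a finite field. -/
theorem exists_field {K : Type*} [Group K] {A : Type*} [Group A] [Finite A] {p k : ℕ} [Fact p.Prime]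
    (hA : ∀ x y : A, x * y = y * x) (hcard : Nat.card A = p ^ k) (hk : k ≠ 0)
    (hK : ∀ x y : K, x * y = y * x) (θ : K →* MulAut A)
    (hirr : ∀ W : Subgroup A, (∀ h, ∀ x ∈ W, θ h x ∈ W) → W = ⊥ ∨ W = ⊤) :
    ∃ (f : A → GaloisField p k) (ξ : K → GaloisField p k), Function.Bijective f ∧
      (∀ x y, f (x * y) = f x + f y) ∧ (∀ h h', ξ (h * h') = ξ h * ξ h') ∧
      ∀ h x, f (θ h x) = ξ h * f x := by
  classical
  letI : CommGroup A := { ‹Group A› with mul_comm := hA }
  let E := AddMonoid.End (Additive A)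
  let op : K → E := fun h => MonoidHom.toAdditive (θ h).toMonoidHom
  have hop : ∀ h h', op (h * h') = op h * op h' := fun h h' => by
    refine DFunLike.ext _ _ fun x => ?_
    show Additive.ofMul (θ (h * h') x.toMul) = Additive.ofMul (θ h (θ h' x.toMul))
    rw [map_mul]; rfl
  have hcomm : ∀ x ∈ Set.range op, ∀ y ∈ Set.range op, x * y = y * x := by
    rintro _ ⟨h, rfl⟩ _ ⟨h', rfl⟩
    rw [← hop, ← hop, hK]
  set R : Subring E := Subring.closure (Set.range op) with hR
  have hcen : ∀ r ∈ R, ∀ h, r * op h = op h * r := by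
    intro r hr h
    have hle : R ≤ Subring.centralizer {op h} := Subring.closure_le.2 fun y hy => by
      intro g hg
      rw [Set.mem_singleton_iff.1 hg]
      exact hcomm _ ⟨h, rfl⟩ y hy
    exact (hle hr (op h) rfl).symm
  have hRcomm : ∀ x y : R, x * y = y * x := by
    have h1 : R ≤ Subring.centralizer (Set.range op) := Subring.closure_le.2 fun y hy g hg => hcomm g hg y hy
    have h2 : R ≤ Subring.centralizer (R : Set E) := Subring.closure_le.2 fun y hy g hg => by
      obtain ⟨h, rfl⟩ := hy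
      exact hcen g hg h
    exact fun x y => Subtype.ext (h2 y.2 x.1 x.2)
  letI : CommRing R := { (inferInstance : Ring R) with mul_comm := hRcomm }
  have hinv : ∀ r ∈ R, ∀ S : AddSubgroup (Additive A), S = r.ker ∨ S = r.range →
      ∀ h, ∀ x ∈ S, op h x ∈ S := by
    intro r hr S hS h x hx
    rcases hS with rfl | rfl
    · change r x = 0 at hx
      show r (op h x) = 0
      have := DFunLike.congr_fun (hcen r hr h) x
      exact this.trans (by show op h (r x) = 0; rw [hx, map_zero])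
    · obtain ⟨y, rfl⟩ := hx
      exact ⟨op h y, DFunLike.congr_fun (hcen r hr h) y⟩
  have hirr' : ∀ S : AddSubgroup (Additive A), (∀ h, ∀ x ∈ S, op h x ∈ S) → S = ⊥ ∨ S = ⊤ := by
    intro S hS
    rcases hirr (AddSubgroup.toSubgroup' S) (fun h x hx => hS h (Additive.ofMul x) hx) with h | h
    · refine Or.inl ?_
      rw [← AddSubgroup.toSubgroup'.apply_eq_iff_eq, h]
      rfl
    · refine Or.inr ?_
      rw [← AddSubgroup.toSubgroup'.apply_eq_iff_eq, h]
      rfl
  have hinj : ∀ r ∈ R, r ≠ 0 → Function.Injective r := by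
    intro r hr hr0
    rcases hirr' r.ker (hinv r hr _ (Or.inl rfl)) with h | h
    · exact (AddMonoidHom.ker_eq_bot_iff r).1 h
    · refine absurd ?_ hr0
      exact DFunLike.ext _ _ fun x => AddMonoidHom.mem_ker.1 (h ▸ AddSubgroup.mem_top x : x ∈ r.ker)
  haveI : Nontrivial A := Finite.one_lt_card_iff_nontrivial.1 (by
    rw [hcard]; exact Nat.one_lt_pow hk (Fact.out : p.Prime).one_lt)
  obtain ⟨v0, hv0⟩ := exists_ne (0 : Additive A)
  haveI : Nontrivial R := ⟨⟨1, 0, fun h => hv0 (DFunLike.congr_fun (congrArg Subtype.val h) v0)⟩⟩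
  haveI : NoZeroDivisors R := ⟨fun {x y} h => by
    by_contra hc
    push Not at hc
    refine hc.2 (Subtype.ext (DFunLike.ext _ _ fun z => ?_))
    refine hinj x.1 x.2 (fun e => hc.1 (Subtype.ext e)) ?_
    show (x.1 * y.1) z = x.1 0
    rw [map_zero, show x.1 * y.1 = 0 from congrArg Subtype.val h]
    rfl⟩
  haveI : IsDomain R := NoZeroDivisors.to_isDomain R
  haveI : Finite E := Finite.of_injective (fun r : E => (r : Additive A → Additive A)) DFunLike.coe_injective
  haveI : Fintype R := Fintype.ofFinite R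
  letI : Field R := Fintype.fieldOfDomain R
  let ev : R → Additive A := fun r => r.1 v0
  have hev : Function.Bijective ev := by
    refine ⟨fun r s e => ?_, ?_⟩
    · by_contra hne
      refine hv0 (hinj (r - s).1 (r - s).2 (fun e' => hne (sub_eq_zero.1 (Subtype.ext e'))) ?_)
      show r.1 v0 - s.1 v0 = (r - s).1 0
      rw [map_zero]
      exact sub_eq_zero.2 e
    · let S : AddSubgroup (Additive A) :=
        { carrier := Set.range ev
          zero_mem' := ⟨0, rfl⟩
          add_mem' := by rintro _ _ ⟨r, rfl⟩ ⟨s, rfl⟩; exact ⟨r + s, rfl⟩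
          neg_mem' := by rintro _ ⟨r, rfl⟩; exact ⟨-r, rfl⟩ }
      rcases hirr' S (fun h x hx => by
        obtain ⟨r, rfl⟩ := hx
        exact ⟨⟨op h, Subring.subset_closure ⟨h, rfl⟩⟩ * r, rfl⟩) with h | h
      · exact absurd (h ▸ (⟨1, rfl⟩ : v0 ∈ S) : v0 ∈ (⊥ : AddSubgroup (Additive A)))
          (by simpa using hv0)
      · exact fun x => (h ▸ AddSubgroup.mem_top x : x ∈ S)
  have hRcard : Fintype.card R = p ^ k := by
    rw [← Nat.card_eq_fintype_card, Nat.card_eq_of_bijective ev hev, ← hcard]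
    exact Nat.card_congr Additive.toMul
  haveI : Finite (GaloisField p k) := Nat.finite_of_card_ne_zero (by
    rw [GaloisField.card p k hk]; exact (pow_pos (Fact.out : p.Prime).pos k).ne')
  letI : Fintype (GaloisField p k) := Fintype.ofFinite _
  let e : R ≃+* GaloisField p k := FiniteField.ringEquivOfCardEq (by
    rw [hRcard, ← Nat.card_eq_fintype_card, GaloisField.card p k hk])
  let evE := Equiv.ofBijective ev hev
  refine ⟨fun x => e (evE.symm (Additive.ofMul x)),
    fun h => e ⟨op h, Subring.subset_closure ⟨h, rfl⟩⟩,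
    e.bijective.comp (evE.symm.bijective.comp Additive.ofMul.bijective), fun x y => ?_, fun h h' => ?_,
    fun h x => ?_⟩
  · rw [← map_add]
    refine congrArg e (evE.injective ?_)
    show evE (evE.symm (Additive.ofMul (x * y))) = ev (evE.symm (Additive.ofMul x)) + ev (evE.symm (Additive.ofMul y))
    rw [Equiv.apply_symm_apply]
    show _ = evE (evE.symm _) + evE (evE.symm _)
    rw [Equiv.apply_symm_apply, Equiv.apply_symm_apply]
    rfl
  · rw [← map_mul]
    exact congrArg e (Subtype.ext (hop h h'))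
  · rw [← map_mul]
    refine congrArg e (evE.injective ?_)
    rw [Equiv.apply_symm_apply]
    show _ = op h (evE (evE.symm (Additive.ofMul x)))
    rw [Equiv.apply_symm_apply]
    rfl

/-- The field structure of `U / Z₀`. -/
structure Scalars {G : Type u} {Ω : Type v} [Group G] [MulAction G Ω] [Finite G] {p n d : ℕ}
    [Fact p.Prime] (S : Hyp G Ω p n d) where
  β : G → GaloisField p (2 * n)
  ξ : G → GaloisField p (2 * n)
  β_mul : ∀ x ∈ S.U, ∀ y ∈ S.U, β (x * y) = β x + β y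
  β_zero_iff : ∀ x ∈ S.U, β x = 0 ↔ cj S.t x = x
  β_surj : ∀ l, ∃ x, S.IsInv x ∧ β x = l
  ξ_mul : ∀ x ∈ S.H, ∀ y ∈ S.H, ξ (x * y) = ξ x * ξ y
  β_cj : ∀ h ∈ S.H, ∀ x ∈ S.U, β (cj h x) = ξ h * β x

namespace Hyp

variable {G : Type u} {Ω : Type v} [Group G] [MulAction G Ω] [Finite G] [FaithfulSMul G Ω]
  {p n d : ℕ} [Fact p.Prime] (S : Hyp G Ω p n d)

theorem exists_scalars : Nonempty (Scalars S) := by
  classical
  set N : Subgroup S.U := S.Z0.subgroupOf S.U with hN
  have hNle : S.Z0 ≤ S.U := inf_le_left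
  haveI : N.Normal := ⟨fun z hz u => by
    rw [hN, Subgroup.mem_subgroupOf] at hz ⊢
    exact S.Z0_normal u.2 hz⟩
  have hcomm : ∀ x y : S.U ⧸ N, x * y = y * x := by
    intro x y
    induction x using QuotientGroup.induction_on with | _ x => ?_
    induction y using QuotientGroup.induction_on with | _ y => ?_
    rw [← QuotientGroup.mk_mul, ← QuotientGroup.mk_mul, QuotientGroup.eq, hN, Subgroup.mem_subgroupOf]
    have h := S.commutator_mem (inv_mem y.2) (inv_mem x.2)
    simpa [mul_assoc] using h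
  have hNcard : Nat.card N = p ^ n := by
    rw [hN, Nat.card_congr (Subgroup.subgroupOfEquivOfLe hNle).toEquiv, S.card_Z0]
  have hcard : Nat.card (S.U ⧸ N) = p ^ (2 * n) := by
    have h := Subgroup.card_eq_card_quotient_mul_card_subgroup N
    rw [hNcard, S.card_U] at h
    refine Nat.eq_of_mul_eq_mul_right (pow_pos S.prime.pos n) (h.symm.trans ?_)
    rw [← pow_add]; congr 1; omega
  let θ : S.H →* MulAut S.U := S.conjHom S.U fun h hh x hx => S.cj_mem_U hh hx
  have hN' : ∀ h : S.H, N.map ((θ h : MulAut S.U) : S.U →* S.U) = N := fun h => by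
    refine Subgroup.eq_of_le_of_card_ge ?_ ?_
    · rintro _ ⟨x, hx, rfl⟩
      exact S.cj_Z0 h.2 hx
    · rw [Subgroup.card_map_of_injective (θ h).injective]
  let φ : S.H →* MulAut (S.U ⧸ N) :=
    { toFun := fun h => QuotientGroup.congr N N (θ h) (hN' h)
      map_one' := by ext x; induction x using QuotientGroup.induction_on; simp
      map_mul' := fun h h' => by ext x; induction x using QuotientGroup.induction_on; simp }
  have hirr : ∀ W : Subgroup (S.U ⧸ N), (∀ h, ∀ x ∈ W, φ h x ∈ W) → W = ⊥ ∨ W = ⊤ := by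
    intro W hW
    obtain ⟨j, hj2, hj⟩ := (Nat.dvd_prime_pow S.prime).1 (hcard ▸ Subgroup.card_subgroup_dvd_card W)
    rcases Nat.lt_or_ge j (2 * n) with hlt | hge
    · left
      let ψ : S.H →* MulAut W :=
        { toFun := fun h =>
            { toFun := fun x => ⟨φ h x, hW h x x.2⟩
              invFun := fun x => ⟨φ h⁻¹ x, hW h⁻¹ x x.2⟩
              left_inv := fun x => Subtype.ext (by
                show φ h⁻¹ (φ h x) = x
                rw [map_inv]; exact MulEquiv.symm_apply_apply _ _)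
              right_inv := fun x => Subtype.ext (by
                show φ h (φ h⁻¹ x) = x
                rw [map_inv]; exact MulEquiv.apply_symm_apply _ _)
              map_mul' := fun x y => Subtype.ext (map_mul (φ h) _ _) }
          map_one' := by ext x; simp
          map_mul' := fun h h' => by ext x; simp }
      have hψ := S.w_small W j hj hlt ψ
      rw [Subgroup.eq_bot_iff_forall]
      intro x hx
      have hfix : φ ⟨S.w, S.w_mem⟩ x = x :=
        congrArg Subtype.val (DFunLike.congr_fun hψ (⟨x, hx⟩ : W))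
      obtain ⟨u, rfl⟩ := QuotientGroup.mk_surjective x
      obtain ⟨z, hz, y, hy, e⟩ := S.decomp u.2
      have h0 : (u : S.U ⧸ N) = ((θ ⟨S.w, S.w_mem⟩ u : S.U) : S.U ⧸ N) := hfix.symm
      have h1 : (u : G)⁻¹ * cj S.w u ∈ S.Z0 := Subgroup.mem_subgroupOf.1 (QuotientGroup.eq.1 h0)
      rw [e, cj_mul] at h1
      have hy' := S.cj_inv_set S.w_mem hy
      have h2 : y⁻¹ * cj S.w y ∈ S.Z0 := by
        have hzz : z⁻¹ * cj S.w z ∈ S.Z0 := mul_mem (inv_mem hz) (S.cj_Z0 S.w_mem hz)
        have hc := S.Z0_comm_inv hzz hy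
        have e2 : (z * y)⁻¹ * (cj S.w z * cj S.w y) = z⁻¹ * cj S.w z * (y⁻¹ * cj S.w y) := by
          rw [← mul_assoc (z⁻¹ * cj S.w z) y⁻¹,
            (show Commute (z⁻¹ * cj S.w z) y from hc).inv_right.eq]
          group
        rw [e2] at h1
        exact (Subgroup.mul_mem_cancel_left _ hzz).1 h1
      obtain ⟨c, hc⟩ : ∃ c, c = y⁻¹ * cj S.w y := ⟨_, rfl⟩
      have e3 : c * y = 1 * cj S.w y := by
        rw [one_mul, S.Z0_comm_inv (hc ▸ h2) hy, hc]; group
      have e4 := (S.decomp_unique' (hc ▸ h2) (one_mem _) hy hy' e3).2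
      have hyZ : y ∈ S.Z0 := by
        rw [← S.cU_w_Z0]
        exact S.mem_cU.2 ⟨hy.1, cj_eq_iff.1 e4.symm⟩
      rw [QuotientGroup.eq_one_iff, hN, Subgroup.mem_subgroupOf, e]
      exact mul_mem hz hyZ
    · right
      exact Subgroup.eq_top_of_card_eq _ (by rw [hj, hcard, show j = 2 * n by omega])
  obtain ⟨f, ξ, hf, hfm, hξm, hfξ⟩ := exists_field hcomm hcard (by have := S.pos; omega)
    (fun x y : S.H => Subtype.ext (S.H_comm x.2 y.2)) φ hirr
  let β : G → GaloisField p (2 * n) := fun x => if h : x ∈ S.U then f ↑(⟨x, h⟩ : S.U) else 0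
  let ξ' : G → GaloisField p (2 * n) := fun x => if h : x ∈ S.H then ξ ⟨x, h⟩ else 0
  have hβ : ∀ (x : G) (h : x ∈ S.U), β x = f ↑(⟨x, h⟩ : S.U) := fun x h => dif_pos h
  have hf1 : f 1 = 0 := by simpa using (hfm 1 1).symm
  refine ⟨⟨β, ξ', fun x hx y hy => ?_, fun x hx => ?_, fun l => ?_, fun x hx y hy => ?_,
    fun h hh x hx => ?_⟩⟩
  · rw [hβ _ (mul_mem hx hy), hβ _ hx, hβ _ hy, ← hfm]
    rfl
  · rw [hβ _ hx, ← hf1, hf.1.eq_iff, QuotientGroup.eq_one_iff, hN, Subgroup.mem_subgroupOf, S.mem_Z0]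
    exact ⟨fun h => h.2, fun h => ⟨hx, h⟩⟩
  · obtain ⟨x, hx⟩ := hf.2 l
    obtain ⟨u, rfl⟩ := QuotientGroup.mk_surjective x
    obtain ⟨z, hz, y, hy, e⟩ := S.decomp u.2
    refine ⟨y, hy, ?_⟩
    rw [hβ _ hy.1, ← hx]
    congr 1
    rw [QuotientGroup.eq, hN, Subgroup.mem_subgroupOf]
    show y⁻¹ * (u : G) ∈ S.Z0
    rw [e, ← mul_assoc, ← (show Commute z y from S.Z0_comm_inv hz hy).inv_right.eq,
      inv_mul_cancel_right]
    exact hz
  · simp only [ξ', dif_pos (mul_mem hx hy), dif_pos hx, dif_pos hy]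
    exact hξm ⟨x, hx⟩ ⟨y, hy⟩
  · simp only [ξ', dif_pos hh]
    rw [hβ _ hx, hβ _ (S.cj_mem_U hh hx), ← hfξ]
    rfl

end Hyp

namespace Scalars

variable {G : Type u} {Ω : Type v} [Group G] [MulAction G Ω] [Finite G] [FaithfulSMul G Ω]
  {p n d : ℕ} [Fact p.Prime] {S : Hyp G Ω p n d} (C : Scalars S)

include C

omit [FaithfulSMul G Ω] in
theorem β_one : C.β 1 = 0 := (C.β_zero_iff 1 (one_mem _)).2 (cj_one _)

omit [FaithfulSMul G Ω] in
theorem β_inv {x : G} (hx : x ∈ S.U) : C.β x⁻¹ = -C.β x := by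
  rw [eq_neg_iff_add_eq_zero, ← C.β_mul _ (inv_mem hx) _ hx, inv_mul_cancel, C.β_one]

theorem β_Z0 {z : G} (hz : z ∈ S.Z0) : C.β z = 0 :=
  (C.β_zero_iff z (S.mem_Z0.1 hz).1).2 (S.mem_Z0.1 hz).2

theorem mem_Z0_of_β {x : G} (hx : x ∈ S.U) (h : C.β x = 0) : x ∈ S.Z0 :=
  S.mem_Z0.2 ⟨hx, (C.β_zero_iff x hx).1 h⟩

theorem inv_ext {x y : G} (hx : S.IsInv x) (hy : S.IsInv y) (h : C.β x = C.β y) : x = y := by
  have h1 : x * y⁻¹ ∈ S.Z0 := C.mem_Z0_of_β (mul_mem hx.1 (inv_mem hy.1))
    (by rw [C.β_mul _ hx.1 _ (inv_mem hy.1), C.β_inv hy.1, h, add_neg_cancel])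
  have e : 1 * x = (x * y⁻¹) * y := by rw [one_mul, inv_mul_cancel_right]
  exact (S.decomp_unique' (one_mem _) h1 hx hy e).2

theorem ξ_ne {h : G} (hh : h ∈ S.H) : C.ξ h ≠ 0 := fun h0 => by
  obtain ⟨x, hx, hxl⟩ := C.β_surj 1
  have h1 : S.IsInv (cj h x) := S.cj_inv_set hh hx
  have h2 := C.inv_ext h1 (y := 1) ⟨one_mem _, by rw [cj_one, inv_one]⟩
    (by rw [C.β_cj h hh x hx.1, h0, zero_mul, C.β_one])
  rw [cj_eq_one] at h2
  rw [h2, C.β_one] at hxl
  exact zero_ne_one hxl

theorem ξ_one : C.ξ 1 = 1 := by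
  have h := C.ξ_mul 1 (one_mem _) 1 (one_mem _)
  rw [one_mul] at h
  exact (mul_eq_left₀ (C.ξ_ne (one_mem _))).1 h.symm

theorem ξ_inv {h : G} (hh : h ∈ S.H) : C.ξ h⁻¹ = (C.ξ h)⁻¹ := by
  refine eq_inv_of_mul_eq_one_left ?_
  rw [← C.ξ_mul _ (inv_mem hh) _ hh, inv_mul_cancel, C.ξ_one]

theorem ξ_pow {h : G} (hh : h ∈ S.H) (k : ℕ) : C.ξ (h ^ k) = C.ξ h ^ k := by
  induction k with
  | zero => rw [pow_zero, pow_zero, C.ξ_one]
  | succ k ih => rw [pow_succ, C.ξ_mul _ (pow_mem hh k) _ hh, ih, pow_succ]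

theorem card_field : Nat.card (GaloisField p (2 * n)) = (p ^ n) ^ 2 := by
  rw [GaloisField.card p (2 * n) (by have := S.pos; omega), ← pow_mul, mul_comm 2]

theorem faithful {h : G} (hh : h ∈ S.H) (h1 : C.ξ h = 1) : h = 1 := by
  by_contra hne
  obtain ⟨m, hmn, hm, -⟩ := S.card_cU hh hne
  choose f hf hfl using C.β_surj
  have hfix : ∀ l, f l ∈ S.cU h := fun l => S.mem_cU.2 ⟨(hf l).1, cj_eq_iff.1 <|
    C.inv_ext (S.cj_inv_set hh (hf l)) (hf l) (by rw [C.β_cj h hh _ (hf l).1, h1, one_mul])⟩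
  have hle : Nat.card (GaloisField p (2 * n)) ≤ Nat.card (S.cU h) :=
    Nat.card_le_card_of_injective (fun l => ⟨f l, hfix l⟩) fun a b e => by
      rw [← hfl a, ← hfl b]
      exact congrArg (fun x : S.cU h => C.β x) e
  rw [C.card_field, hm] at hle
  have h2 : p ^ m ≤ p ^ n := Nat.pow_le_pow_right S.prime.pos hmn
  have h3 := S.q_ge
  nlinarith

theorem ξ_inj {g h : G} (hg : g ∈ S.H) (hh : h ∈ S.H) (e : C.ξ g = C.ξ h) : g = h := by
  refine mul_inv_eq_one.1 (C.faithful (mul_mem hg (inv_mem hh)) ?_)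
  rw [C.ξ_mul _ hg _ (inv_mem hh), C.ξ_inv hh, e, mul_inv_cancel₀ (C.ξ_ne hh)]

theorem ξ_t : C.ξ S.t = -1 := by
  have h := C.ξ_mul _ S.t_mem _ S.t_mem
  rw [S.t_mul, C.ξ_one] at h
  rcases mul_self_eq_one_iff.1 h.symm with h1 | h1
  · exact absurd (C.faithful S.t_mem h1) S.t_ne
  · exact h1

theorem cU_le {h u : G} (hh : h ∈ S.H) (h1 : h ≠ 1) (hu : u ∈ S.cU h) : u ∈ S.Z0 :=
  S.cU_le_Z0 hh hu fun x hx hc => by
    have e := C.β_cj h hh x hx.1
    rw [cj_eq_iff.2 hc] at e
    have h2 : C.β x = 0 := by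
      by_contra hne
      exact h1 (C.faithful hh ((mul_eq_right₀ hne).1 e.symm))
    exact S.eq_one_of_inv_Z0 hx (C.mem_Z0_of_β hx.1 h2)

/-- The image of `ξ` is the group of `e`-th roots of unity, `e = |H|`. -/
theorem exists_ξ {l : GaloisField p (2 * n)} (hl : l ^ Nat.card S.H = 1) : ∃ h ∈ S.H, C.ξ h = l := by
  classical
  haveI := Fintype.ofFinite S.H
  let T : Finset (GaloisField p (2 * n)) := (Polynomial.nthRoots (Nat.card S.H) (1 : GaloisField p (2 * n))).toFinset
  have hsub : (Finset.univ.image fun h : S.H => C.ξ h) ⊆ T := by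
    intro x hx
    obtain ⟨h, -, rfl⟩ := Finset.mem_image.1 hx
    rw [Multiset.mem_toFinset, Polynomial.mem_nthRoots Nat.card_pos, ← C.ξ_pow h.2, ← C.ξ_one]
    exact congrArg (fun y : S.H => C.ξ y) (pow_card_eq_one' (x := h))
  have hinj : Function.Injective fun h : S.H => C.ξ h :=
    fun g h e => Subtype.ext (C.ξ_inj g.2 h.2 e)
  have hcard : T.card ≤ (Finset.univ.image fun h : S.H => C.ξ h).card := by
    rw [Finset.card_image_of_injective _ hinj, Finset.card_univ, ← Nat.card_eq_fintype_card]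
    exact (Multiset.toFinset_card_le _).trans (Polynomial.card_nthRoots _ _)
  have heq := Finset.eq_of_subset_of_card_le hsub hcard
  have : l ∈ T := by rw [Multiset.mem_toFinset, Polynomial.mem_nthRoots Nat.card_pos, hl]
  rw [← heq] at this
  obtain ⟨h, -, e⟩ := Finset.mem_image.1 this
  exact ⟨h, h.2, e⟩

end Scalars

end CfsgLib.LocalEvenB.OddUnitary
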