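import Cfsg.Agent.Lib.LocalEvenB.OddUnitary.Involution
import Cfsg.Agent.Lib.LocalEven.Zsigmondy

/-!
Owner: helper20. The special element `w` of `H` (of primitive prime order, or `g^(p-1)` when `n = 1`),
and the centraliser of the involution in `U`: it has order `q`.
-/

set_option autoImplicit false
set_option linter.all false

universe u v

namespace CfsgLib.LocalEvenB.OddUnitary

/-- The congruence for a permutation of prime order. -/
theorem modEq_fixed {X : Type*} [Finite X] {r : ℕ} (hr : r.Prime) (σ : Equiv.Perm X) (h : σ ^ r = 1) :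
    Nat.card X ≡ Nat.card {x // σ x = x} [MOD r] := by
  haveI := Fact.mk hr
  obtain ⟨i, hi⟩ : ∃ i, orderOf σ = r ^ i := by
    rcases (Nat.dvd_prime hr).1 (orderOf_dvd_of_pow_eq_one h) with h1 | h1
    · exact ⟨0, by rw [h1, pow_zero]⟩
    · exact ⟨1, by rw [h1, pow_one]⟩
  have hP : IsPGroup r (Subgroup.zpowers σ) := IsPGroup.of_card (n := i) (by rw [Nat.card_zpowers, hi])
  refine (hP.card_modEq_card_fixedPoints X).trans (by
    refine congrArg (· % r) ?_
    refine Nat.card_congr (Equiv.subtypeEquivRight fun x => ⟨fun hx => hx ⟨σ, Subgroup.mem_zpowers σ⟩,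
      fun hx g => ?_⟩)
    obtain ⟨k, hk⟩ := Subgroup.mem_zpowers_iff.1 g.2
    show (g : Equiv.Perm X) x = x
    rw [← hk]
    exact Equiv.Perm.zpow_apply_eq_self_of_apply_eq_self hx k)

/-- A prime dividing `p^j - 1` only for `j` a multiple of `N`, stated for `j` below `2 N`. -/
theorem prim_eq {p r N j : ℕ} (hN : r ∣ p ^ N - 1) (hprim : ∀ k, 0 < k → k < N → ¬ r ∣ p ^ k - 1)
    (hp : 0 < p) (hj : r ∣ p ^ j - 1) (hjN : j < 2 * N) : j = 0 ∨ j = N := by
  rcases Nat.eq_zero_or_pos j with h | h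
  · exact Or.inl h
  rcases lt_or_ge j N with h1 | h1
  · exact absurd hj (hprim j h h1)
  rcases Nat.eq_zero_or_pos (j - N) with h2 | h2
  · exact Or.inr (by omega)
  exfalso
  refine hprim (j - N) h2 (by omega) ?_
  have e : p ^ j - 1 = p ^ (j - N) * (p ^ N - 1) + (p ^ (j - N) - 1) := by
    have e1 : p ^ j = p ^ (j - N) * p ^ N := by rw [← pow_add]; congr 1; omega
    have h3 : 1 ≤ p ^ (j - N) := Nat.one_le_pow _ _ hp
    have h4 : 1 ≤ p ^ N := Nat.one_le_pow _ _ hp
    have h5 : p ^ (j - N) ≤ p ^ (j - N) * p ^ N := Nat.le_mul_of_pos_right _ h4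
    rw [e1, Nat.mul_sub_one]
    omega
  rw [e] at hj
  exact (Nat.dvd_add_right (dvd_mul_of_dvd_right hN _)).1 hj

namespace Hyp

variable {G : Type u} {Ω : Type v} [Group G] [MulAction G Ω] {p n d : ℕ} (S : Hyp G Ω p n d)

/-- `w` acts trivially on every small `p`-group on which `H` acts. -/
def IsSmall (w : S.H) : Prop :=
  ∀ (A : Type u) [Group A] [Finite A] (k : ℕ), Nat.card A = p ^ k → k < 2 * n →
    ∀ φ : S.H →* MulAut A, φ w = 1

/-- The prime of `w` when `n ≥ 2`. -/
def IsPrimitive (_S : Hyp G Ω p n d) (r : ℕ) : Prop :=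
  r.Prime ∧ r ≠ 2 ∧ r ∣ p ^ n + 1 ∧ r ∣ p ^ (2 * n) - 1 ∧ ∀ k, 0 < k → k < 2 * n → ¬ r ∣ p ^ k - 1

theorem small_of_prime [Finite G] {r : ℕ} (hr : S.IsPrimitive r) {w : S.H} (hw : w ^ r = 1) :
    S.IsSmall w := by
  intro A _ _ k hA hk φ
  obtain ⟨hr1, -, -, hN, hprim⟩ := hr
  haveI := Fact.mk S.prime
  let σ : Equiv.Perm A := (φ w).toEquiv
  let ι : MulAut A →* Equiv.Perm A :=
    { toFun := fun e => e.toEquiv, map_one' := rfl, map_mul' := fun _ _ => rfl }
  have hσ : σ ^ r = 1 := by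
    show (ι (φ w)) ^ r = 1
    rw [← map_pow, ← map_pow, hw, map_one, map_one]
  let T : Subgroup A :=
    { carrier := {x | φ w x = x}
      one_mem' := map_one _
      mul_mem' := fun {x y} hx hy => by
        show φ w (x * y) = x * y
        rw [map_mul, hx, hy]
      inv_mem' := fun {x} hx => by
        show φ w x⁻¹ = x⁻¹
        rw [map_inv, hx] }
  obtain ⟨c, hck, hc⟩ := (Nat.dvd_prime_pow S.prime).1 (hA ▸ Subgroup.card_subgroup_dvd_card T)
  have hmod : p ^ k ≡ p ^ c [MOD r] := by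
    rw [← hA, ← hc]
    exact modEq_fixed hr1 σ hσ
  have hdiv : r ∣ p ^ (k - c) - 1 := by
    have h1 : r ∣ p ^ k - p ^ c := (Nat.modEq_iff_dvd' (Nat.pow_le_pow_right S.prime.pos hck)).1 hmod.symm
    rw [show p ^ k - p ^ c = p ^ c * (p ^ (k - c) - 1) by
      rw [Nat.mul_sub_one, ← pow_add, Nat.add_sub_cancel' hck]] at h1
    refine ((Nat.Coprime.pow_right c ?_).dvd_of_dvd_mul_left h1)
    refine (Nat.coprime_primes hr1 S.prime).2 fun e => ?_
    have h2 : p ∣ p ^ (2 * n) - 1 := e ▸ hN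
    have h3 : p ∣ p ^ (2 * n) := dvd_pow_self p (by have := S.pos; omega)
    have h4 : 1 ≤ p ^ (2 * n) := Nat.one_le_pow _ _ S.prime.pos
    have h5 := Nat.dvd_sub h3 h2
    rw [Nat.sub_sub_self h4] at h5
    exact S.prime.ne_one (Nat.dvd_one.1 h5)
  have hkc : k = c := by
    rcases prim_eq hN hprim S.prime.pos hdiv (by omega) with h | h <;> omega
  have hT : T = ⊤ := Subgroup.eq_top_of_card_eq _ (by rw [hc, hA, hkc])
  ext x
  exact (show x ∈ T from hT ▸ Subgroup.mem_top x)

theorem exists_special [Finite G] :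
    ∃ w : S.H, w ≠ 1 ∧ w ^ (p ^ n + 1) = 1 ∧ S.IsSmall w ∧
      (2 ≤ n → ∃ r, S.IsPrimitive r ∧ w ^ r = 1) := by
  have hp3 := S.three_le
  rcases Nat.lt_or_ge n 2 with hn | hn
  · have hn1 : n = 1 := by have := S.pos; omega
    haveI := S.cyc
    obtain ⟨g, hg⟩ := IsCyclic.exists_ofOrder_eq_natCard (α := S.H)
    have hcH : d * Nat.card S.H = (p - 1) * (p + 1) := by
      have h := S.card_H'
      have e : p ^ n = p := by simp [hn1]
      rwa [e] at h
    refine ⟨g ^ (p - 1), fun h => ?_, ?_, ?_, fun h => absurd h (by omega)⟩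
    · have h1 := orderOf_dvd_of_pow_eq_one h
      rw [hg] at h1
      have h2 := Nat.le_of_dvd (by omega) h1
      have h3 := hcH
      have h4 : d * Nat.card S.H ≤ 3 * (p - 1) :=
        Nat.mul_le_mul (by rcases S.d_cases with h | h <;> omega) h2
      have h5 : 3 * (p - 1) < (p - 1) * (p + 1) := by
        rw [mul_comm 3]; exact Nat.mul_lt_mul_of_pos_left (by omega) (by omega)
      omega
    · rw [show p ^ n = p by simp [hn1], ← pow_mul]
      refine orderOf_dvd_iff_pow_eq_one.1 ?_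
      rw [hg]
      refine ⟨d, ?_⟩
      rw [← hcH]; ring
    · intro A _ _ k hA hk φ
      rw [hn1] at hk
      rcases Nat.eq_zero_or_pos k with rfl | hk0
      · have : Subsingleton A := (Nat.card_eq_one_iff_unique.1 (by simpa using hA)).1
        exact MulEquiv.ext fun x => Subsingleton.elim _ _
      · have hk1 : k = 1 := by omega
        rw [hk1, pow_one] at hA
        haveI := Fact.mk S.prime
        haveI : IsCyclic A := isCyclic_of_prime_card hA
        have hM : Nat.card (MulAut A) = p - 1 := by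
          rw [IsCyclic.card_mulAut, hA, Nat.totient_prime S.prime]
        rw [map_pow, ← hM]
        exact pow_card_eq_one'
  · obtain ⟨r, hr, hN, hprim⟩ := CfsgLib.Zsigmondy.exists_primitive_prime_divisor
      (a := p) (n := 2 * n) S.prime.one_lt (by omega) (fun h => S.odd h.1) (fun h => by omega)
    have hp_pos := S.prime.pos
    have hr2 : r ≠ 2 := fun e => by
      refine hprim 1 one_pos (by omega) ?_
      obtain ⟨m, hm⟩ := S.prime.odd_of_ne_two S.odd
      exact ⟨m, by rw [pow_one, e]; omega⟩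
    have hsplit : p ^ (2 * n) - 1 = (p ^ n - 1) * (p ^ n + 1) := by
      rw [mul_comm (p ^ n - 1), ← Nat.sq_sub_sq, one_pow, ← pow_mul, mul_comm n 2]
    have hrq : r ∣ p ^ n + 1 := by
      rw [hsplit] at hN
      exact (hr.dvd_mul.1 hN).resolve_left (hprim n (by omega) (by omega))
    have hr3 : r ≠ 3 := fun e => by
      by_cases hp : p = 3
      · have h1 : r ∣ p ^ n := by rw [e, hp]; exact dvd_pow_self 3 (by omega)
        have h2 := Nat.dvd_sub hrq h1
        rw [Nat.add_sub_cancel_left] at h2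
        exact hr.ne_one (Nat.dvd_one.1 h2)
      · refine hprim 2 two_pos (by omega) ?_
        have hcop : p.Coprime 3 := (Nat.coprime_primes S.prime Nat.prime_three).2 hp
        have h1 := Nat.ModEq.pow_totient hcop
        rw [Nat.totient_prime Nat.prime_three] at h1
        rw [e]
        exact (Nat.modEq_iff_dvd' (Nat.one_le_pow _ _ hp_pos)).1 h1.symm
    have hrH : r ∣ Nat.card S.H := by
      have h1 : r ∣ d * Nat.card S.H := by rw [S.card_H]; exact hN
      refine (hr.dvd_mul.1 h1).resolve_left fun h2 => ?_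
      rcases S.d_cases with h | h <;> rw [h] at h2
      · exact hr.ne_one (Nat.dvd_one.1 h2)
      · exact hr3 ((Nat.prime_dvd_prime_iff_eq hr Nat.prime_three).1 h2)
    haveI := Fact.mk hr
    obtain ⟨w, hw⟩ := exists_prime_orderOf_dvd_card' (G := S.H) r hrH
    have hwr : w ^ r = 1 := by rw [← hw, pow_orderOf_eq_one]
    refine ⟨w, fun h => ?_, ?_, S.small_of_prime ⟨hr, hr2, hrq, hN, hprim⟩ hwr,
      fun _ => ⟨r, ⟨hr, hr2, hrq, hN, hprim⟩, hwr⟩⟩
    · rw [h, orderOf_one] at hw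
      exact hr.ne_one hw.symm
    · obtain ⟨c, hc⟩ := hrq
      rw [hc, pow_mul, hwr, one_pow]

/-- The special element. -/
noncomputable def w [Finite G] : G := (S.exists_special.choose : S.H)

theorem w_mem [Finite G] : S.w ∈ S.H := (S.exists_special.choose).2

theorem w_ne [Finite G] : S.w ≠ 1 := fun h =>
  S.exists_special.choose_spec.1 (Subtype.ext h)

theorem w_pow [Finite G] : S.w ^ (p ^ n + 1) = 1 :=
  congrArg Subtype.val S.exists_special.choose_spec.2.1

theorem w_small [Finite G] : S.IsSmall ⟨S.w, S.w_mem⟩ := S.exists_special.choose_spec.2.2.1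

theorem w_prime [Finite G] (hn : 2 ≤ n) : ∃ r, S.IsPrimitive r ∧ S.w ^ r = 1 := by
  obtain ⟨r, h1, h2⟩ := S.exists_special.choose_spec.2.2.2 hn
  exact ⟨r, h1, congrArg Subtype.val h2⟩

/-- The action of `H` by conjugation on an invariant subgroup. -/
def conjHom (X : Subgroup G) (hX : ∀ h ∈ S.H, ∀ x ∈ X, cj h x ∈ X) : S.H →* MulAut X where
  toFun h :=
    { toFun := fun x => ⟨cj h x, hX h h.2 x x.2⟩
      invFun := fun x => ⟨cj (h : G)⁻¹ x, hX _ (inv_mem h.2) x x.2⟩
      left_inv := fun x => Subtype.ext (by simp [cj_cj])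
      right_inv := fun x => Subtype.ext (by simp [cj_cj])
      map_mul' := fun x y => Subtype.ext (cj_mul _ _ _) }
  map_one' := by ext x; simp
  map_mul' h k := by ext x; simp [cj_cj]

theorem w_comm_small [Finite G] (X : Subgroup G) (hX : ∀ h ∈ S.H, ∀ x ∈ X, cj h x ∈ X) {k : ℕ}
    (hc : Nat.card X = p ^ k) (hk : k < 2 * n) {x : G} (hx : x ∈ X) : S.w * x = x * S.w := by
  have h := S.w_small X k hc hk (S.conjHom X hX)
  have e : cj S.w x = x := congrArg Subtype.val (DFunLike.congr_fun h (⟨x, hx⟩ : X))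
  exact cj_eq_iff.1 e

theorem cU_inv {g : G} (hg : g ∈ S.H) : ∀ h ∈ S.H, ∀ x ∈ S.cU g, cj h x ∈ S.cU g := fun h hh x hx => by
  obtain ⟨hxU, hxg⟩ := S.mem_cU.1 hx
  refine S.mem_cU.2 ⟨S.cj_mem_U hh hxU, cj_eq_iff.1 ?_⟩
  rw [cj_cj, S.H_comm hg hh, ← cj_cj, cj_eq_iff.2 hxg]

theorem cU_t_le_w [Finite G] [FaithfulSMul G Ω] : S.cU S.t ≤ S.cU S.w := fun x hx => by
  obtain ⟨m, hmn, hm, -⟩ := S.card_cU S.t_mem S.t_ne
  exact S.mem_cU.2 ⟨(S.mem_cU.1 hx).1,
    S.w_comm_small _ (S.cU_inv S.t_mem) hm (by have := S.pos; omega) hx⟩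

theorem card_cU_w [Finite G] [FaithfulSMul G Ω] (hn : 2 ≤ n) : Nat.card (S.cU S.w) = p ^ n := by
  haveI := S.finite_points
  obtain ⟨r, ⟨hr, -, -, hN, hprim⟩, hwr⟩ := S.w_prime hn
  obtain ⟨m, hmn, hm, -⟩ := S.card_cU S.w_mem S.w_ne
  have hmod := modEq_fixed hr (MulAction.toPermHom G Ω S.w) (by rw [← map_pow, hwr, map_one])
  have hfix : Nat.card {x : Ω // S.w • x = x} = p ^ m + 1 := by
    rw [← hm, ← S.ncard_fixSet S.w_mem, ← Nat.card_coe_set_eq]
    rfl
  simp only [MulAction.toPermHom_apply, MulAction.toPerm_apply] at hmod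
  rw [S.card_points, hfix] at hmod
  have hle : p ^ m ≤ p ^ (3 * n) := Nat.pow_le_pow_right S.prime.pos (by omega)
  have h1 : r ∣ p ^ (3 * n) - p ^ m := (Nat.modEq_iff_dvd' hle).1 (hmod.add_right_cancel' 1).symm
  rw [show p ^ (3 * n) - p ^ m = p ^ m * (p ^ (3 * n - m) - 1) by
    rw [Nat.mul_sub_one, ← pow_add, Nat.add_sub_cancel' (by omega : m ≤ 3 * n)]] at h1
  have h2 : r ∣ p ^ (3 * n - m) - 1 := by
    refine (hr.dvd_mul.1 h1).resolve_left fun h => ?_
    have he := (Nat.prime_dvd_prime_iff_eq hr S.prime).1 (hr.dvd_of_dvd_pow h)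
    subst he
    have h3 : r ∣ r ^ (2 * n) := dvd_pow_self r (by omega)
    have h4 := Nat.dvd_sub h3 hN
    rw [Nat.sub_sub_self (Nat.one_le_pow _ _ hr.pos)] at h4
    exact hr.ne_one (Nat.dvd_one.1 h4)
  rw [hm]
  rcases prim_eq hN hprim S.prime.pos h2 (by omega) with h | h
  · omega
  · rw [show m = n by omega]

theorem card_cU_t [Finite G] [FaithfulSMul G Ω] : Nat.card (S.cU S.t) = p ^ n := by
  haveI := S.finite_points
  obtain ⟨m, hmn, hm, -⟩ := S.card_cU S.t_mem S.t_ne
  have hcount := S.swaps_count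
  rw [hm] at hcount
  have hp3 := S.three_le
  rw [hm]
  by_contra hne
  have hmn' : m < n := lt_of_le_of_ne hmn fun e => hne (by rw [e])
  rcases Nat.lt_or_ge n 2 with hn | hn
  · have hn1 : n = 1 := by have := S.pos; omega
    have hm0 : m = 0 := by omega
    have e3 : p ^ (3 * n) = p ^ (3 * 1) := by simp [hn1]
    have e1' : p ^ n = p := by simp [hn1]
    rw [hm0, e3, pow_zero] at hcount
    have h1 := S.ncard_swaps_le
    have h2 := S.card_H_lt
    rw [e1'] at h2
    have h3 : 3 * p ^ 2 ≤ p ^ (3 * 1) := by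
      rw [show p ^ (3 * 1) = p * p ^ 2 by ring]
      exact Nat.mul_le_mul_right _ hp3
    have h4 : 9 ≤ p ^ 2 := by nlinarith
    omega
  obtain ⟨r, ⟨hr, hr2, -, hN, hprim⟩, hwr⟩ := S.w_prime hn
  classical
  haveI := Fintype.ofFinite G
  haveI := Fintype.ofFinite Ω
  have hcw : S.cU S.w ≠ ⊥ := fun h => by
    have := S.card_cU_w hn
    rw [h, Subgroup.card_bot] at this
    have := S.q_ge
    omega
  have hrf : ¬ r ∣ p ^ m + 1 := fun h => by
    have h1 : r ∣ p ^ (2 * m) - 1 := by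
      rw [show p ^ (2 * m) - 1 = (p ^ m + 1) * (p ^ m - 1) by
        rw [← Nat.sq_sub_sq, one_pow, ← pow_mul, mul_comm m 2]]
      exact h.mul_right _
    rcases Nat.eq_zero_or_pos m with h0 | h0
    · rw [h0, pow_zero] at h
      exact hr2 ((Nat.prime_dvd_prime_iff_eq hr Nat.prime_two).1 h)
    · exact hprim (2 * m) (by omega) (by omega) h1
  have key : ∀ j ∈ S.swaps, ∃ g : G, g * S.w = S.w * g ∧ j = cj g S.t := by
    intro j hj
    have hjw : j * S.w = S.w * j := S.swap_comm hj.2 (S.swaps_b hj) S.w_mem hcw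
    obtain ⟨x, hxj, hxw⟩ : ∃ x, j • x = x ∧ S.w • x = x := by
      by_contra h
      push Not at h
      refine hrf ?_
      obtain ⟨g, hg⟩ := hj.1
      have hjx : Nat.card {x : Ω // j • x = x} = p ^ m + 1 := by
        rw [← hm, ← S.ncard_fixSet S.t_mem, ← Nat.card_coe_set_eq]
        refine Nat.card_congr ((MulAction.toPerm g⁻¹).subtypeEquiv fun x => ?_)
        rw [← hg]
        simp only [MulAction.toPerm_apply, fixSet, cj, mul_smul, Set.mem_ofPred_eq]
        constructor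
        · intro e
          rw [eq_inv_smul_iff]
          exact e
        · intro e
          rw [eq_inv_smul_iff] at e
          exact e
      let σ : Equiv.Perm {x : Ω // j • x = x} := (MulAction.toPerm S.w).subtypePerm fun x => by
        simp only [MulAction.toPerm_apply]
        rw [← mul_smul, hjw, mul_smul, smul_left_cancel_iff]
      have hσ : σ ^ r = 1 := by
        ext x
        simp only [σ, Equiv.Perm.subtypePerm_pow, Equiv.Perm.subtypePerm_apply, Equiv.Perm.one_apply]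
        rw [← MulAction.toPermHom_apply, ← map_pow, hwr, map_one, Equiv.Perm.one_apply]
      have h1 := modEq_fixed hr σ hσ
      haveI : IsEmpty {x : {x : Ω // j • x = x} // σ x = x} :=
        ⟨fun x => h x.1.1 x.1.2 (congrArg Subtype.val x.2)⟩
      rw [hjx, Nat.card_of_isEmpty] at h1
      exact Nat.modEq_zero_iff_dvd.1 h1
    have hxa : x ≠ S.a := fun e => S.ne (by rw [← hj.2, ← e, hxj])
    obtain ⟨g0, ga, gb⟩ := S.exists_swap
    obtain ⟨u, hu, hub⟩ := S.U_reg x hxa
    have huw : S.w * u = u * S.w := (S.fix_Ub_iff S.w_mem hu).1 (hub ▸ hxw)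
    have hg0 : g0 * S.w = S.w * g0 := S.swap_comm ga gb S.w_mem hcw
    set g := u * g0 with hg
    have hgw : g * S.w = S.w * g := by rw [hg, mul_assoc, hg0, ← mul_assoc, ← huw, mul_assoc]
    have hga : g • S.a = x := by rw [hg, mul_smul, ga, hub]
    set j0 := cj g⁻¹ j with hj0
    have hj0sq := S.refl_sq (S.refl_cj hj.1 g⁻¹)
    have hgi : g⁻¹ * S.w = S.w * g⁻¹ := ((show Commute g S.w from hgw).inv_left).eq
    have hj0w : S.w * j0 = j0 * S.w := by
      have h1 : Commute g⁻¹ S.w := hgi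
      have h2 : Commute j S.w := hjw
      have h3 : Commute g S.w := hgw
      rw [hj0, cj, inv_inv]
      exact ((h1.mul_left h2).mul_left h3).symm.eq
    obtain ⟨v, hv, hvj, hvc⟩ := S.exists_conj_of_fix hj0sq.1 hj0sq.2 (by
      rw [cj, inv_inv, mul_smul, mul_smul, hga, hxj, inv_smul_eq_iff, hga])
    refine ⟨g * v, ?_, ?_⟩
    · have hvw := hvc S.w hj0w (S.H_comm S.w_mem S.t_mem)
      exact ((show Commute g S.w from hgw).mul_left (show Commute v S.w from hvw.symm)).eq
    · rw [← cj_cj, ← hvj, cj_cj, mul_inv_cancel, cj_one_left]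
  have hFw : (S.fixSet S.w).toFinset.card = p ^ n + 1 := by
    rw [← Set.ncard_eq_toFinset_card', S.ncard_fixSet S.w_mem, S.card_cU_w hn]
  set X : Finset Ω := ((S.fixSet S.w).toFinset.erase S.a).erase S.b with hX
  have hXcard : X.card = p ^ n - 1 := by
    rw [hX, Finset.card_erase_of_mem, Finset.card_erase_of_mem, hFw]
    · omega
    · exact Set.mem_toFinset.2 (S.H_fix_a S.w_mem)
    · exact Finset.mem_erase.2 ⟨Ne.symm S.ne, Set.mem_toFinset.2 (S.H_fix_b S.w_mem)⟩
  set P : Finset (G × Ω) := (S.swaps.toFinset ×ˢ X).filter fun z => z.1 • z.2 = z.2 with hP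
  have hlow : S.swaps.toFinset.card * (p ^ m + 1) ≤ P.card := by
    rw [Finset.card_eq_sum_card_fiberwise (f := Prod.fst) (s := P) (t := S.swaps.toFinset) fun z hz =>
      (Finset.mem_product.1 (Finset.mem_filter.1 hz).1).1]
    rw [← smul_eq_mul]
    refine Finset.card_nsmul_le_sum _ _ _ fun j hj => ?_
    have hj' : j ∈ S.swaps := Set.mem_toFinset.1 hj
    obtain ⟨g, hgw, hgt⟩ := key j hj'
    refine le_trans (le_of_eq ?_) (Finset.card_le_card (s := (S.fixSet S.t).toFinset.image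
      fun x => (j, g • x)) ?_)
    · rw [Finset.card_image_of_injective _ fun x y h => smul_left_cancel g (congrArg Prod.snd h),
        ← Set.ncard_eq_toFinset_card', S.ncard_fixSet S.t_mem, hm]
    · intro z hz
      obtain ⟨x, hx, rfl⟩ := Finset.mem_image.1 hz
      have hxt : x ∈ S.fixSet S.t := Set.mem_toFinset.1 hx
      have hxt : S.t • x = x := hxt
      have hfix : j • (g • x) = g • x := by
        rw [hgt]; simp only [cj, mul_smul, inv_smul_smul, hxt]
      have hxw : S.w • x = x := by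
        rcases (S.fixSet_eq S.t_mem).le hxt with e | ⟨u, hu, e⟩
        · rw [e]; exact S.H_fix_a S.w_mem
        · have h1 := S.mem_cU.1 (S.cU_t_le_w hu)
          rw [← e]; exact (S.fix_Ub_iff S.w_mem h1.1).2 h1.2
      refine Finset.mem_filter.2 ⟨Finset.mem_filter.2 ⟨Finset.mem_product.2 ⟨hj, ?_⟩, hfix⟩, rfl⟩
      refine Finset.mem_erase.2 ⟨fun e => ?_, Finset.mem_erase.2 ⟨fun e => ?_, Set.mem_toFinset.2 ?_⟩⟩
      · exact S.ne ((S.swaps_b hj').symm.trans (e ▸ hfix))
      · exact S.ne ((e ▸ hfix : j • S.a = S.a).symm.trans hj'.2)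
      · show S.w • (g • x) = g • x
        rw [← mul_smul, ← hgw, mul_smul, hxw]
  have hup : P.card ≤ (p ^ n - 1) * p ^ n := by
    rw [Finset.card_eq_sum_card_fiberwise (f := Prod.snd) (s := P) (t := X) fun z hz =>
      (Finset.mem_product.1 (Finset.mem_filter.1 hz).1).2, ← hXcard]
    refine Finset.sum_le_card_nsmul _ _ _ fun x hx => ?_
    obtain ⟨hxb, hxa, hxw⟩ := (by
      simpa only [hX, Finset.mem_erase, Set.mem_toFinset] using hx : x ≠ S.b ∧ x ≠ S.a ∧ x ∈ S.fixSet S.w)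
    obtain ⟨g0, ga, gb⟩ := S.exists_swap
    obtain ⟨u, hu, hub⟩ := S.U_reg x hxa
    have huw : S.w * u = u * S.w := (S.fix_Ub_iff S.w_mem hu).1 (hub ▸ hxw)
    have hg0 : g0 * S.w = S.w * g0 := S.swap_comm ga gb S.w_mem hcw
    set g := u * g0 with hg
    have hgw : g * S.w = S.w * g := by rw [hg, mul_assoc, hg0, ← mul_assoc, ← huw, mul_assoc]
    have hga : g • S.a = x := by rw [hg, mul_smul, ga, hub]
    have hsub : (P.filter fun z => z.2 = x) ⊆
        ((S.cU S.w : Set G).toFinset).image fun v => (cj g (cj v S.t), x) := by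
      rintro ⟨j, y⟩ hz
      obtain ⟨hz1, rfl⟩ := Finset.mem_filter.1 hz
      obtain ⟨hz2, hjy⟩ := Finset.mem_filter.1 hz1
      have hj : j ∈ S.swaps := Set.mem_toFinset.1 (Finset.mem_product.1 hz2).1
      have hj0sq := S.refl_sq (S.refl_cj hj.1 g⁻¹)
      obtain ⟨v, hv, hvj, hvc⟩ := S.exists_conj_of_fix hj0sq.1 hj0sq.2 (by
        rw [cj, inv_inv, mul_smul, mul_smul, hga]
        exact (congrArg (g⁻¹ • ·) hjy).trans (by rw [inv_smul_eq_iff, hga]))
      have hj0w : S.w * cj g⁻¹ j = cj g⁻¹ j * S.w := by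
        have h1 : Commute g⁻¹ S.w := ((show Commute g S.w from hgw).inv_left)
        have h2 : Commute j S.w := S.swap_comm hj.2 (S.swaps_b hj) S.w_mem hcw
        have h3 : Commute g S.w := hgw
        rw [cj, inv_inv]
        exact ((h1.mul_left h2).mul_left h3).symm.eq
      refine Finset.mem_image.2 ⟨v, Set.mem_toFinset.2
        (S.mem_cU.2 ⟨hv, hvc S.w hj0w (S.H_comm S.w_mem S.t_mem)⟩), Prod.ext ?_ rfl⟩
      show cj g (cj v S.t) = j
      rw [← hvj, cj_cj, mul_inv_cancel, cj_one_left]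
    refine (Finset.card_le_card hsub).trans (Finset.card_image_le.trans (le_of_eq ?_))
    rw [← Set.ncard_eq_toFinset_card', ← Nat.card_coe_set_eq]
    exact S.card_cU_w hn
  rw [← Set.ncard_eq_toFinset_card'] at hlow
  have hfin := hlow.trans hup
  set Q := p ^ n with hQ
  have e1 : p ^ m * ((p ^ m + 1) * S.swaps.ncard) = p ^ m * (p ^ (3 * n - m) - 1) := by
    rw [Nat.mul_sub_one, ← pow_add, Nat.add_sub_cancel' (by omega : m ≤ 3 * n), ← hcount]
    ring
  have e2 := Nat.eq_of_mul_eq_mul_left (pow_pos S.prime.pos m) e1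
  have h3 : p ^ (2 * n + 1) ≤ p ^ (3 * n - m) := Nat.pow_le_pow_right S.prime.pos (by omega)
  have h4 : (Q - 1) * Q + 1 < p ^ (2 * n + 1) := by
    rw [pow_succ, mul_comm 2 n, pow_mul, ← hQ]
    have hQ3 := S.q_ge
    rw [← hQ] at hQ3
    have h5 : (Q - 1) * Q ≤ Q ^ 2 := by rw [pow_two]; exact Nat.mul_le_mul_right _ (Nat.sub_le _ _)
    have h6 : Q ^ 2 * 3 ≤ Q ^ 2 * p := Nat.mul_le_mul_left _ hp3
    have h7 : 9 ≤ Q ^ 2 := by nlinarith
    omega
  rw [mul_comm] at hfin
  omega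

theorem card_swaps [Finite G] [FaithfulSMul G Ω] : S.swaps.ncard = p ^ n - 1 := by
  have h := S.swaps_count
  rw [S.card_cU_t] at h
  have e : p ^ (3 * n) - p ^ n = (p ^ n + 1) * p ^ n * (p ^ n - 1) := by
    rw [mul_comm 3 n, pow_mul, mul_comm (p ^ n + 1), mul_assoc, ← Nat.sq_sub_sq, one_pow, Nat.mul_sub_one]
    congr 1
    ring
  rw [e] at h
  exact Nat.eq_of_mul_eq_mul_left (Nat.mul_pos (by omega) (pow_pos S.prime.pos _)) h

theorem cU_w_eq [Finite G] [FaithfulSMul G Ω] : S.cU S.w = S.cU S.t := by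
  refine (Subgroup.eq_of_le_of_card_ge S.cU_t_le_w ?_).symm
  obtain ⟨m, hmn, hm, -⟩ := S.card_cU S.w_mem S.w_ne
  rw [hm, S.card_cU_t]
  exact Nat.pow_le_pow_right S.prime.pos hmn

end Hyp

end CfsgLib.LocalEvenB.OddUnitary
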