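import Cfsg.Agent.Lib.LocalEvenB.OddUnitary.Scalars

/-!
Owner: helper20. The action of the swap on `H`: the elements of order dividing `q - 1` are inverted and
those of order dividing `q + 1` are centralised.
-/

set_option autoImplicit false
set_option linter.all false

universe u v

namespace CfsgLib.LocalEvenB.OddUnitary

/-- A free invariant action divides the cardinality. -/
theorem dvd_of_free {G Ω : Type*} [Group G] [MulAction G Ω] [Finite G] [Finite Ω] (R : Subgroup G)
    (X : Set Ω) (hinv : ∀ r ∈ R, ∀ x ∈ X, r • x ∈ X) (hfree : ∀ r ∈ R, ∀ x ∈ X, r • x = x → r = 1) :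
    Nat.card R ∣ X.ncard := by
  classical
  let act : MulAction R X :=
    { smul := fun r x => ⟨(r : G) • (x : Ω), hinv r r.2 x x.2⟩
      one_smul := fun x => Subtype.ext (one_smul G (x : Ω))
      mul_smul := fun r r' x => Subtype.ext (mul_smul (r : G) (r' : G) (x : Ω)) }
  letI := act
  have hstab : ∀ x : X, MulAction.stabilizer R x = ⊥ := fun x => by
    rw [Subgroup.eq_bot_iff_forall]
    intro r hr
    exact Subtype.ext (hfree r r.2 x x.2 (congrArg Subtype.val (MulAction.mem_stabilizer_iff.1 hr)))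
  rw [← Nat.card_coe_set_eq, Nat.card_congr (MulAction.selfEquivSigmaOrbitsQuotientStabilizer R X)]
  haveI : Fintype (Quotient (MulAction.orbitRel R X)) := Fintype.ofFinite _
  rw [Nat.card_sigma]
  refine Finset.dvd_sum fun ω _ => ?_
  rw [hstab]
  exact dvd_of_eq (Nat.card_congr (QuotientGroup.quotientBot (G := R)).toEquiv).symm

namespace Hyp

variable {G : Type u} {Ω : Type v} [Group G] [MulAction G Ω] [Finite G] [FaithfulSMul G Ω]
  {p n d : ℕ} (S : Hyp G Ω p n d)

theorem exists_refl_swap : ∃ W : Swap S, W.s ∈ S.refl := by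
  have h := S.card_swaps
  have hq := S.q_ge
  obtain ⟨j, hj⟩ := Set.nonempty_of_ncard_ne_zero (s := S.swaps) (by omega)
  exact ⟨⟨j, (S.refl_sq hj.1).1, hj.2⟩, hj.1⟩

/-- A reflection commuting with `t` and fixing a fixed point of `t` is `t`. -/
theorem eq_t_of_fix {j : G} (hj : j ∈ S.refl) (hjt : j * S.t = S.t * j) {x : Ω} (hx : S.t • x = x)
    (hjx : j • x = x) : j = S.t := by
  have base : ∀ i ∈ S.refl, i * S.t = S.t * i → i • S.a = S.a → i = S.t := fun i hi hit hia => by
    obtain ⟨u, hu, rfl, hc⟩ := S.exists_conj_of_fix (S.refl_sq hi).1 (S.refl_sq hi).2 hia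
    exact cj_eq_iff.2 (hc S.t hit.symm rfl).symm
  by_cases hxa : x = S.a
  · exact base j hj hjt (hxa ▸ hjx)
  obtain ⟨g0, ga, gb⟩ := S.exists_swap
  obtain ⟨u, hu, hub⟩ := S.U_reg x hxa
  have hut : S.t * u = u * S.t := (S.fix_Ub_iff S.t_mem hu).1 (hub ▸ hx)
  have hgt : Commute (u * g0) S.t :=
    (show Commute u S.t from hut.symm).mul_left (show Commute g0 S.t from S.swap_t ga gb)
  have hga : (u * g0) • S.a = x := by rw [mul_smul, ga, hub]
  have h := base (cj (u * g0)⁻¹ j) (S.refl_cj hj _)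
    (by rw [cj, inv_inv]; exact ((hgt.inv_left.mul_left (show Commute j S.t from hjt)).mul_left hgt).eq)
    (by rw [cj, inv_inv, mul_smul, mul_smul, hga, hjx, inv_smul_eq_iff, hga])
  have h2 := congrArg (cj (u * g0)) h
  rw [cj_cj, mul_inv_cancel, cj_one_left] at h2
  rw [h2, cj_eq_iff]
  exact hgt.eq

theorem ncard_fix_refl {j : G} (hj : j ∈ S.refl) : {x : Ω | j • x = x}.ncard = p ^ n + 1 := by
  obtain ⟨g, rfl⟩ := hj
  rw [← S.card_Z0, Z0, ← S.ncard_fixSet S.t_mem, show {x : Ω | cj g S.t • x = x} = (g • ·) '' S.fixSet S.t by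
    ext x
    constructor
    · intro hx
      refine ⟨g⁻¹ • x, ?_, smul_inv_smul g x⟩
      show S.t • g⁻¹ • x = g⁻¹ • x
      rw [eq_inv_smul_iff, ← mul_smul g, ← mul_smul]
      exact hx
    · rintro ⟨y, hy, rfl⟩
      show cj g S.t • g • y = g • y
      rw [cj, mul_smul, inv_smul_smul, mul_smul, hy]]
  exact Set.ncard_image_of_injective _ (MulAction.injective g)

end Hyp

namespace Swap

variable {G : Type u} {Ω : Type v} [Group G] [MulAction G Ω] [Finite G] [FaithfulSMul G Ω]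
  {p n d : ℕ} {S : Hyp G Ω p n d} (W : Swap S)

omit [FaithfulSMul G Ω] in
theorem s_t : W.s * S.t = S.t * W.s := S.swap_t W.s_a W.s_b

omit [FaithfulSMul G Ω] in
theorem pr_t : W.pr S.t = S.t := by rw [pr, W.s_t, mul_assoc, W.s_mul, mul_one]

/-- `λ ↦ pr λ · λ⁻¹` on `H`. -/
def rho : S.H →* S.H where
  toFun l := ⟨W.pr l * (l : G)⁻¹, mul_mem (W.pr_mem l.2) (inv_mem l.2)⟩
  map_one' := Subtype.ext (by simp [W.pr_one])
  map_mul' x y := Subtype.ext (by
    show W.pr ((x : G) * (y : G)) * ((x : G) * (y : G))⁻¹ = W.pr (x : G) * (x : G)⁻¹ * (W.pr (y : G) * (y : G)⁻¹)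
    rw [W.pr_mul, mul_inv_rev]
    calc W.pr (x : G) * W.pr (y : G) * ((y : G)⁻¹ * (x : G)⁻¹)
        = W.pr (x : G) * ((W.pr (y : G) * (y : G)⁻¹) * (x : G)⁻¹) := by group
      _ = W.pr (x : G) * ((x : G)⁻¹ * (W.pr (y : G) * (y : G)⁻¹)) := by
          rw [S.H_comm (mul_mem (W.pr_mem y.2) (inv_mem y.2)) (inv_mem x.2)]
      _ = _ := by group)

theorem card_rho [Fact p.Prime] (C : Scalars S) (hs : W.s ∈ S.refl) :
    Nat.card W.rho.range = p ^ n - 1 ∧ d * Nat.card W.rho.ker = p ^ n + 1 := by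
  classical
  haveI := S.finite_points
  set R := W.rho.range
  set K := W.rho.ker
  -- the range divides `q - 1`
  have hR : Nat.card R ∣ p ^ n - 1 := by
    set T : Set S.H := {x | W.s * (x : G) ∈ S.refl} with hT
    have hTs : T.ncard = p ^ n - 1 := by
      rw [← S.card_swaps, ← Set.ncard_image_of_injective T (f := fun x : S.H => W.s * (x : G))
        fun x y e => Subtype.ext (mul_left_cancel e)]
      congr 1
      ext j
      constructor
      · rintro ⟨x, hx, rfl⟩
        exact ⟨hx, by rw [mul_smul, S.H_fix_a x.2, W.s_a]⟩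
      · intro hj
        refine ⟨⟨W.s * j, (S.mem_H _).2 ?_⟩, ?_, W.s_cancel j⟩
        · rw [mul_smul, mul_smul, hj.2, S.swaps_b hj, W.s_a, W.s_b]
          exact ⟨rfl, rfl⟩
        · show W.s * (W.s * j) ∈ S.refl
          rw [W.s_cancel]; exact hj.1
    have hpre : (QuotientGroup.mk ⁻¹' ((QuotientGroup.mk : S.H → S.H ⧸ R) '' T)) = T := by
      refine subset_antisymm (fun x hx => ?_) (Set.subset_preimage_image _ _)
      obtain ⟨y, hy, e⟩ := hx
      obtain ⟨l, hl⟩ := QuotientGroup.eq.1 e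
      have hx' : (x : G) = y * (W.pr l * (l : G)⁻¹) := by
        have h1 : x = y * W.rho l := by rw [hl]; group
        exact congrArg Subtype.val h1
      show W.s * (x : G) ∈ S.refl
      have h2 : W.s * (x : G) = cj (l : G) (W.s * y) := by
        rw [hx', cj, ← mul_assoc (l : G) W.s, W.mul_s_eq]
        rw [← mul_assoc (y : G), S.H_comm y.2 (W.pr_mem l.2)]
        simp only [mul_assoc]
      rw [h2]
      exact S.refl_cj hy _
    refine ⟨Nat.card ((QuotientGroup.mk : S.H → S.H ⧸ R) '' T), ?_⟩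
    rw [← hTs]
    conv_lhs => rw [← hpre]
    rw [← Nat.card_coe_set_eq, Nat.card_congr (QuotientGroup.preimageMkEquivSubgroupProdSet R _),
      Nat.card_prod]
  -- the kernel divides `q + 1`
  have hK : Nat.card K ∣ p ^ n + 1 := by
    have hc : Nat.card (K.map S.H.subtype) = Nat.card K :=
      Subgroup.card_map_of_injective Subtype.val_injective
    rw [← hc, ← S.ncard_fix_refl hs]
    have hcomm : ∀ r ∈ K.map S.H.subtype, r ∈ S.H ∧ W.s * r = r * W.s := by
      rintro r ⟨l, hl, rfl⟩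
      refine ⟨l.2, ?_⟩
      have h1 : W.pr (l : G) * (l : G)⁻¹ = 1 := congrArg Subtype.val hl
      show W.s * (l : G) = (l : G) * W.s
      rw [W.s_mul_eq, mul_inv_eq_one.1 h1]
    refine dvd_of_free _ _ (fun r hr x hx => ?_) fun r hr x hx hrx => ?_
    · show W.s • r • x = r • x
      rw [← mul_smul, (hcomm r hr).2, mul_smul, hx]
    · by_contra hne
      have hx' : W.s • x = x := hx
      have hxa : x ≠ S.a := fun e => S.ne (by rw [← W.s_a, ← e, hx'])
      obtain ⟨u, hu, hub⟩ := S.U_reg x hxa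
      have hZ := C.cU_le (hcomm r hr).1 hne
        (S.mem_cU.2 ⟨hu, (S.fix_Ub_iff (hcomm r hr).1 hu).1 (hub ▸ hrx)⟩)
      have htx : S.t • x = x := by
        rw [← hub, S.fix_Ub_iff S.t_mem hu]
        exact cj_eq_iff.1 (S.mem_Z0.1 hZ).2
      have := S.eq_t_of_fix hs W.s_t htx hx'
      refine S.ne ?_
      rw [← W.s_a, this, S.H_fix_a S.t_mem]
  have hprod : Nat.card S.H = Nat.card R * Nat.card K := by
    rw [Subgroup.card_eq_card_quotient_mul_card_subgroup K,
      Nat.card_congr (QuotientGroup.quotientKerEquivRange W.rho).toEquiv]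
  obtain ⟨A, hA⟩ := hR
  obtain ⟨B, hB⟩ := hK
  have hq := S.q_ge
  have hcard := S.card_H'
  rw [hprod] at hcard
  have hd : d = A * B := by
    have hpos : 0 < Nat.card R * Nat.card K := Nat.mul_pos Nat.card_pos Nat.card_pos
    refine Nat.eq_of_mul_eq_mul_right hpos (hcard.trans ?_)
    rw [hA, hB]; ring
  have hA1 : A = 1 := by
    have hd' : A ∣ p ^ n + 1 := (Dvd.intro B hd.symm).trans S.d_dvd
    have hA' : A ∣ p ^ n - 1 := Dvd.intro_left _ hA.symm
    have h2 : A ∣ 2 := by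
      have := Nat.dvd_sub hd' hA'
      rwa [show p ^ n + 1 - (p ^ n - 1) = 2 by omega] at this
    have h3 : A ∣ 3 := by
      rcases S.d_cases with h | h <;> rw [h] at hd
      · exact (Dvd.intro B hd.symm).trans (one_dvd 3)
      · exact ⟨B, hd⟩
    exact Nat.dvd_one.1 (by simpa using Nat.dvd_gcd h2 h3)
  rw [hA1, one_mul] at hd
  rw [hA1, mul_one] at hA
  exact ⟨hA.symm, (congrArg (· * Nat.card K) hd).trans (by rw [hB, mul_comm])⟩

theorem pr_mul_inv_pow [Fact p.Prime] (C : Scalars S) (hs : W.s ∈ S.refl) {l : G} (hl : l ∈ S.H) :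
    (W.pr l * l⁻¹) ^ (p ^ n - 1) = 1 := by
  rw [← (W.card_rho C hs).1]
  have h := pow_card_eq_one' (x := (⟨W.rho ⟨l, hl⟩, ⟨_, rfl⟩⟩ : W.rho.range))
  exact congrArg (fun x : W.rho.range => ((x : S.H) : G)) h

theorem card_H_eq [Fact p.Prime] (C : Scalars S) (hs : W.s ∈ S.refl) :
    Nat.card S.H = (p ^ n - 1) * Nat.card W.rho.ker := by
  rw [Subgroup.card_eq_card_quotient_mul_card_subgroup W.rho.ker,
    Nat.card_congr (QuotientGroup.quotientKerEquivRange W.rho).toEquiv, (W.card_rho C hs).1]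

theorem pr_fixed_iff [Fact p.Prime] (C : Scalars S) (hs : W.s ∈ S.refl) {l : G} (hl : l ∈ S.H) :
    W.pr l = l ↔ l ^ (p ^ n + 1) = 1 := by
  classical
  haveI := Fintype.ofFinite S.H
  haveI := S.cyc
  set K := W.rho.ker with hKdef
  have hK := (W.card_rho C hs).2
  have hmem : ∀ x : S.H, x ∈ K ↔ W.pr (x : G) = x := fun x => by
    rw [hKdef, MonoidHom.mem_ker, Subtype.ext_iff]
    exact mul_inv_eq_one
  constructor
  · intro h
    have h1 := pow_card_eq_one' (x := (⟨⟨l, hl⟩, (hmem ⟨l, hl⟩).2 h⟩ : K))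
    have h2 : l ^ Nat.card K = 1 := congrArg (fun x : K => ((x : S.H) : G)) h1
    rw [← hK, mul_comm, pow_mul, h2, one_pow]
  · intro h
    have h1 : l ^ Nat.card S.H = 1 :=
      congrArg Subtype.val (pow_card_eq_one' (x := (⟨l, hl⟩ : S.H)))
    have hg : Nat.gcd (Nat.card S.H) (p ^ n + 1) = Nat.card K := by
      rw [W.card_H_eq C hs, ← hK, Nat.gcd_mul_right]
      have hcop : Nat.gcd (p ^ n - 1) d = 1 := by
        have hq := S.q_ge
        have h2 : Nat.gcd (p ^ n - 1) d ∣ 2 := by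
          have := Nat.dvd_sub ((Nat.gcd_dvd_right _ _).trans S.d_dvd) (Nat.gcd_dvd_left (p ^ n - 1) d)
          rwa [show p ^ n + 1 - (p ^ n - 1) = 2 by omega] at this
        have h3 : Nat.gcd (p ^ n - 1) d ∣ 3 := (Nat.gcd_dvd_right _ _).trans (S.d_eq ▸ Nat.gcd_dvd_left _ _)
        exact Nat.dvd_one.1 (by simpa using Nat.dvd_gcd h2 h3)
      rw [hcop, one_mul]
    have h2 : l ^ Nat.card K = 1 := hg ▸ pow_gcd_eq_one.2 ⟨h1, h⟩
    let T : Finset S.H := Finset.univ.filter fun x => x ^ Nat.card K = 1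
    have hsub : (K : Set S.H).toFinset ⊆ T := fun x hx => by
      rw [Finset.mem_filter]
      exact ⟨Finset.mem_univ _, congrArg Subtype.val
        (pow_card_eq_one' (x := (⟨x, Set.mem_toFinset.1 hx⟩ : K)))⟩
    have heq := Finset.eq_of_subset_of_card_le hsub (by
      refine (IsCyclic.card_pow_eq_one_le Nat.card_pos).trans (le_of_eq ?_)
      rw [← Set.ncard_eq_toFinset_card', ← Nat.card_coe_set_eq]; rfl)
    have : (⟨l, hl⟩ : S.H) ∈ T := Finset.mem_filter.2 ⟨Finset.mem_univ _, Subtype.ext h2⟩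
    rw [← heq, Set.mem_toFinset] at this
    exact (hmem _).1 this

theorem norm_pr [Fact p.Prime] (C : Scalars S) (hs : W.s ∈ S.refl) {l : G} (hl : l ∈ S.H) :
    W.pr l ^ (p ^ n + 1) * l ^ (p ^ n + 1) = 1 := by
  rw [← (show Commute (W.pr l) l from S.H_comm (W.pr_mem hl) hl).mul_pow]
  refine (W.pr_fixed_iff C hs (mul_mem (W.pr_mem hl) hl)).1 ?_
  rw [W.pr_mul, W.pr_pr, S.H_comm hl (W.pr_mem hl)]

/-- The norm from `H` is onto the elements of order dividing `q - 1`. -/
theorem exists_norm [Fact p.Prime] (C : Scalars S) (hs : W.s ∈ S.refl) {r : G} (hr : r ∈ S.H)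
    (h : r ^ (p ^ n - 1) = 1) : ∃ l ∈ S.H, l ^ (p ^ n + 1) = r := by
  classical
  haveI := Fintype.ofFinite S.H
  haveI := S.cyc
  letI : CommGroup S.H := IsCyclic.commGroup
  have hkey : ∀ x : S.H, x ^ (p ^ n + 1) = 1 ↔ x ∈ W.rho.ker := fun x => by
    rw [MonoidHom.mem_ker, Subtype.ext_iff, Subtype.ext_iff]
    refine Iff.trans ?_ mul_inv_eq_one.symm
    rw [W.pr_fixed_iff C hs x.2]
    rfl
  let N : S.H →* S.H := powMonoidHom (p ^ n + 1)
  have hNk : N.ker = W.rho.ker := Subgroup.ext fun x => hkey x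
  have hNr : Nat.card N.range = p ^ n - 1 := by
    rw [← Nat.card_congr (QuotientGroup.quotientKerEquivRange N).toEquiv, hNk,
      Nat.card_congr (QuotientGroup.quotientKerEquivRange W.rho).toEquiv, (W.card_rho C hs).1]
  let T : Finset S.H := Finset.univ.filter fun x => x ^ (p ^ n - 1) = 1
  have hsub : (N.range : Set S.H).toFinset ⊆ T := fun x hx => by
    refine Finset.mem_filter.2 ⟨Finset.mem_univ _, ?_⟩
    rw [← hNr]
    exact congrArg Subtype.val (pow_card_eq_one' (x := (⟨x, Set.mem_toFinset.1 hx⟩ : N.range)))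
  have heq := Finset.eq_of_subset_of_card_le hsub (by
    have hq := S.q_ge
    refine (IsCyclic.card_pow_eq_one_le (show 0 < p ^ n - 1 by omega)).trans (le_of_eq ?_)
    rw [← Set.ncard_eq_toFinset_card', ← Nat.card_coe_set_eq]
    exact hNr.symm)
  have : (⟨r, hr⟩ : S.H) ∈ T := Finset.mem_filter.2 ⟨Finset.mem_univ _, Subtype.ext h⟩
  rw [← heq, Set.mem_toFinset] at this
  obtain ⟨l, hl⟩ := this
  exact ⟨l, l.2, congrArg Subtype.val hl⟩

/-- The swap inverts the elements of order dividing `q - 1`. -/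
theorem pr_real [Fact p.Prime] (C : Scalars S) (hs : W.s ∈ S.refl) {r : G} (hr : r ∈ S.H)
    (h : r ^ (p ^ n - 1) = 1) : W.pr r = r⁻¹ := by
  obtain ⟨l, hl, rfl⟩ := W.exists_norm C hs hr h
  refine eq_inv_of_mul_eq_one_left ?_
  have hp : W.pr (l ^ (p ^ n + 1)) = W.pr l ^ (p ^ n + 1) := by
    generalize p ^ n + 1 = k
    induction k with
    | zero => simp [W.pr_one]
    | succ k ih => rw [pow_succ, W.pr_mul, ih, pow_succ]
  rw [hp]
  exact W.norm_pr C hs hl

end Swap

end CfsgLib.LocalEvenB.OddUnitary
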